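import Groth.Agent.Fano.K666.ConGeo
import Groth.Agent.Curves.K327.TwoSec
import Groth.Agent.Mor.K385.GenLocusAffine
import Groth.Agent.CurvesC.TwoSecEx790
import Groth.Agent.CurvesC.TwoAffine
import Groth.Agent.VBCurve.K708.Coho

/-!
# Two sections of an ample globally generated module on a curve of genus `0`, and the sections `x_0, x_1, x_2`
-/

set_option autoImplicit false

universe u

open CategoryTheory CategoryTheory.Limits AlgebraicGeometry Opposite TopologicalSpace

namespace K666.ConSec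

open Groth.Agent.Fdesc.LocGen K666.ConAlg K666.ConGeo Groth.Agent.CurvesB

variable (k : Type u) [Field k] {C : Scheme.{u}} [C.Over (Spec (CommRingCat.of k))]
  [IsProper (C ↘ (Spec (CommRingCat.of k)))] [IsNoetherian C]

/-- Two sections with dense affine generating loci which cover. -/
theorem exists_two [Infinite k] (hdim : topologicalKrullDim C ≤ 1) {L : C.Modules} (hA : CohB1.IsAmple L)
    (hgg : Curv2.IsGloballyGenerated L) :
    ∃ x y : Γ(L, ⊤), CohB1.genLocus L (homOf x) ⊔ CohB1.genLocus L (homOf y) = ⊤ ∧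
      IsAffineOpen (CohB1.genLocus L (homOf x)) ∧ IsAffineOpen (CohB1.genLocus L (homOf y)) ∧
      Dense (CohB1.genLocus L (homOf x) : Set C) ∧ Dense (CohB1.genLocus L (homOf y) : Set C) := by
  let E : Set C := {ξ | Groth.Agent.CurvesB.SubH1.IsGen ξ}
  have hE : E.Finite := SubClosed.finite_isGen C
  obtain ⟨s, hs⟩ := Groth.Agent.Curves.K327.TwoSec.exists_section (k := k) hA.1 hgg E hE
  have hF := Groth.Agent.Curves.K327.TwoSec.finite_compl hdim s hs
  obtain ⟨t, ht⟩ := Groth.Agent.Curves.K327.TwoSec.exists_section (k := k) hA.1 hgg _ (hE.union hF)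
  have hd : ∀ U : C.Opens, E ⊆ U → Dense (U : Set C) := fun U hU =>
    Groth.Agent.CurvesC.TwoSecEx790.dense_of_generic E (fun p => SubClosed.exists_isGen_specializes p) U hU
  refine ⟨sec s ⊤, sec t ⊤, ?_, ?_, ?_, ?_, ?_⟩
  · rw [homOf_sec, homOf_sec, eq_top_iff]
    intro z _
    by_cases hz : z ∈ CohB1.genLocus L s
    · exact Or.inl hz
    · exact Or.inr (ht z (Or.inr hz))
  · rw [homOf_sec]
    exact Groth.Agent.K385.GenLocusAffine.isAffineOpen_genLocus (C ↘ (Spec (CommRingCat.of k))) hA s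
  · rw [homOf_sec]
    exact Groth.Agent.K385.GenLocusAffine.isAffineOpen_genLocus (C ↘ (Spec (CommRingCat.of k))) hA t
  · rw [homOf_sec]
    exact hd _ hs
  · rw [homOf_sec]
    exact hd _ fun z hz => ht z (Or.inl hz)

omit [AlgebraicGeometry.IsNoetherian C] [IsProper (C ↘ (Spec (CommRingCat.of k)))] in
theorem subsingleton_HH {L : C.Modules} (hL : PicF.IsInvertible L) (x y : Γ(L, ⊤))
    (hcov : CohB1.genLocus L (homOf x) ⊔ CohB1.genLocus L (homOf y) = ⊤)
    (hU : IsAffineOpen (CohB1.genLocus L (homOf x))) (hV : IsAffineOpen (CohB1.genLocus L (homOf y)))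
    (h1 : Subsingleton (Coh.HH C (Coh.structureModule C) 1)) : Subsingleton (Coh.HH C L 1) := by
  refine Groth.Agent.CurvesC.TwoAffine.subsingleton_one hU hV hcov L
    (Groth.Agent.Ega2.QCohLocal.isQCoh_of_isInvertible hL) fun z => ?_
  have hx := isGen_sec_genLocus (homOf x)
  rw [sec_homOf] at hx
  have hx' := hx.res (inf_le_left : CohB1.genLocus L (homOf x) ⊓ CohB1.genLocus L (homOf y) ≤ _)
  rw [res_res] at hx'
  obtain ⟨b, rfl⟩ := hx'.exists_eq z
  obtain ⟨a, a', haa⟩ := Groth.Agent.CurvesC.MVSec.exists_sub_function h1 hcov b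
  refine ⟨a • res L le_top x, a' • res L le_top x, ?_⟩
  change res L (inf_le_left : CohB1.genLocus L (homOf x) ⊓ CohB1.genLocus L (homOf y) ≤ _) _ -
    res L (inf_le_right : CohB1.genLocus L (homOf x) ⊓ CohB1.genLocus L (homOf y) ≤ _) _ = _
  rw [res_smul, res_smul, res_res, res_res, ← sub_smul]
  exact congrArg (· • _) haa

/-- The conic equation of a curve of genus `0` with an ample globally generated module of degree `2`. -/
theorem exists_sections [Infinite k] [IsReduced C] (hdim : topologicalKrullDim C = 1) {L : C.Modules}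
    (hA : CohB1.IsAmple L) (hgg : Curv2.IsGloballyGenerated L)
    (h0 : Module.finrank k (Coh.HH C (Coh.structureModule C) 0) = 1)
    (h1 : Subsingleton (Coh.HH C (Coh.structureModule C) 1)) (hdeg : Curv2.deg k C L 1 = 2) :
    ∃ (x : Fin 3 → Γ(L, ⊤)) (c : Fin 5 → k) (U V : C.Opens) (s t₁ : Γ(C, U)) (r t₂ : Γ(C, V)),
      U ⊔ V = ⊤ ∧ IsAffineOpen U ∧ IsAffineOpen V ∧
      U = CohB1.genLocus L (homOf (x 1)) ∧ V = CohB1.genLocus L (homOf (x 2)) ∧
      res L (le_top : U ≤ ⊤) (x 2) = s • res L (le_top : U ≤ ⊤) (x 1) ∧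
      res L (le_top : V ≤ ⊤) (x 1) = r • res L (le_top : V ≤ ⊤) (x 2) ∧
      res L (le_top : U ≤ ⊤) (x 0) = t₁ • res L (le_top : U ≤ ⊤) (x 1) ∧
      res L (le_top : V ≤ ⊤) (x 0) = t₂ • res L (le_top : V ≤ ⊤) (x 2) ∧
      PresR (co k U) s t₁ c ∧ PresR (co k V) r t₂ ![c 1, c 0, c 4, c 3, c 2] := by
  obtain ⟨x, y, hcov, hU, hV, dU, dV⟩ := exists_two k hdim.le hA hgg
  have hL1 := subsingleton_HH hA.1 x y hcov hU hV h1
  have hx := isGen_sec_genLocus (homOf x)
  rw [sec_homOf] at hx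
  have hy := isGen_sec_genLocus (homOf y)
  rw [sec_homOf] at hy
  obtain ⟨s, hs⟩ := hx.exists_eq (res L (le_top : CohB1.genLocus L (homOf x) ≤ ⊤) y)
  obtain ⟨r, hr⟩ := hy.exists_eq (res L (le_top : CohB1.genLocus L (homOf y) ≤ ⊤) x)
  have hsU : CohB1.genLocus L (homOf x) ⊓ CohB1.genLocus L (homOf y) = C.basicOpen s := by
    rw [inf_comm]
    exact genLocus_inf_eq (homOf y) hx ((sec_homOf _ _).trans hs)
  have hrV : CohB1.genLocus L (homOf x) ⊓ CohB1.genLocus L (homOf y) = C.basicOpen r :=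
    genLocus_inf_eq (homOf x) hy ((sec_homOf _ _).trans hr)
  have hsr := mul_eq_one x y hy s r hs hr
  have h3 : Module.finrank k (Coh.HH C L 0) = 3 := by
    have e1 := Groth.Agent.CurvesC.CurveCoh.euler_eq k C hdim L
    have e2 := Groth.Agent.CurvesC.CurveCoh.euler_eq k C hdim (Coh.structureModule C)
    have e3 : Module.finrank k (Coh.HH C L 1) = 0 := Module.finrank_zero_of_subsingleton
    have e4 : Module.finrank k (Coh.HH C (Coh.structureModule C) 1) = 0 := Module.finrank_zero_of_subsingleton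
    rw [h0, e4] at e2
    rw [e3] at e1
    unfold Curv2.deg at hdeg
    rw [e1, e2] at hdeg
    push_cast at hdeg
    omega
  let _ := alg k (CohB1.genLocus L (homOf x))
  let _ := alg k (CohB1.genLocus L (homOf y))
  let _ := alg k (CohB1.genLocus L (homOf x) ⊓ CohB1.genLocus L (homOf y))
  have hG := glue h0 h1 hcov hU hV dU dV s r hsU hrV hsr
  have hF := finrank_V (k := k) hcov x y hx hy s r hs hr dU dV
  obtain ⟨t₁, t₂, c, e1, e2, P1, P2⟩ := exists_pres hG (hF.trans h3)
  have e2 : ores (inf_le_right : CohB1.genLocus L (homOf x) ⊓ CohB1.genLocus L (homOf y) ≤ _) t₂ =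
    ores (inf_le_left : CohB1.genLocus L (homOf x) ⊓ CohB1.genLocus L (homOf y) ≤ _) t₁ *
      ores (inf_le_right : CohB1.genLocus L (homOf x) ⊓ CohB1.genLocus L (homOf y) ≤ _) r := e2
  obtain ⟨z, hz1, hz2⟩ := res_glue_two L hcov (t₁ • res L le_top x) (t₂ • res L le_top y) (by
    have e3 := congrArg (res L (inf_le_right : CohB1.genLocus L (homOf x) ⊓ CohB1.genLocus L (homOf y) ≤ _)) hr
    rw [res_smul, res_res, res_res] at e3
    rw [res_smul, res_smul, res_res, res_res, e2, mul_smul, ← e3])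
  refine ⟨![z, x, y], c, _, _, s, t₁, r, t₂, hcov, hU, hV, rfl, rfl, hs, hr, hz1, hz2, P1.presR, P2.presR⟩

end K666.ConSec
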