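import Groth.Agent.Fano.K666.ConIs
import Groth.Agent.Fano.K666.ConSec
import Groth.Agent.Fano.K681.ConF
import Groth.Agent.CurvSt.K900.DegC
import Groth.Agent.CurvSt.K900.PtAmple
import Groth.Agent.CurvesC.GenusOne512
import Groth.Agent.CurvesC.AmpleComp
import Groth.Agent.VarietyA.AmpleField
import Groth.Agent.VarietyB.GlobGen
import Groth.Agent.Ega3B.ProjProper
import Groth.Agent.S0002
import Groth.Prelude.Def_StMap

/-!
# A stable map of genus zero and degree two without marked points is a map from a conic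
-/

set_option autoImplicit false

universe u

open CategoryTheory CategoryTheory.Limits AlgebraicGeometry Opposite TopologicalSpace

namespace K666.ConG

open K390.PnSec Groth.Agent.Fdesc.LocGen K745.ConDef K666.ConMap K666.ConIs
open Groth.Agent.CurvesB Groth.Agent.CurvesC Groth.Agent K900.Comp K900.TopArg
open Groth.Agent.CurvesC.CompGeom

theorem co_eq_cs {Ω : Type u} [Field Ω] {C : Scheme.{u}} (q : C ⟶ Spec (CommRingCat.of Ω)) (U : C.Opens) :
    letI : C.Over (Spec (CommRingCat.of Ω)) := ⟨q⟩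
    ConGeo.co Ω U = cs q U := rfl

section Main

variable {k : Type u} [Field k] {n : ℕ} (Ω : Type u) [Field Ω] [IsAlgClosed Ω] {C : Scheme.{u}}
  (q : C ⟶ Spec (CommRingCat.of Ω)) (p : Fin 0 → C) (μ : C ⟶ CohB1.ProjSpace n k)
  (a : Spec (CommRingCat.of Ω) ⟶ Spec (CommRingCat.of k))
  (ha : μ ≫ CohB1.ProjSpace.toSpec n k = q ≫ a)
  (h : StMap.IsStableMap Ω C q 0 p μ)
  (hdeg : letI : C.Over (Spec (CommRingCat.of Ω)) := ⟨q⟩
    Curv2.deg Ω C ((Scheme.Modules.pullback μ).obj (O1 n k)) 1 = 2)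

include ha h hdeg

/-- Node D2 of `K745.PlanC`, from node D1 (hypothesis `hns`). -/
theorem exists_isCon (hns : ∀ E ∈ irreducibleComponents C, ¬ (μ '' E).Subsingleton) : ∃ (c : Fin 5 → Γ(Spec (CommRingCat.of Ω), ⊤))
    (x : Fin 3 → Γ((Scheme.Modules.pullback μ).obj (O1 n k), ⊤)),
    IsCon c q ((Scheme.Modules.pullback μ).obj (O1 n k)) x := by
  let _ : C.Over (Spec (CommRingCat.of Ω)) := ⟨q⟩
  obtain ⟨⟨hP, hconn, hdim, ⟨hX, hg⟩, -, -⟩, h2, -⟩ := h
  have hP' : IsProper (C ↘ Spec (CommRingCat.of Ω)) := hP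
  have hX' : Curv2.AtWorstNodal Ω C := hX
  have hg' : Curv2.genus Ω C = 0 := hg
  have hR : IsReduced C := GenusOne512.isReduced_of_atWorstNodal Ω C hX'
  have hN : AlgebraicGeometry.IsNoetherian C := CurveCoh.noetherianSpace Ω C
  -- the target after base change
  have hPp : IsProper (CohB1.ProjSpace.toSpec n k) := Groth.Agent.Ega3B.ProjProper.isProper_toSpec n k
  let Y := pullback (CohB1.ProjSpace.toSpec n k) a
  let _ : Y.Over (Spec (CommRingCat.of Ω)) := ⟨pullback.snd (CohB1.ProjSpace.toSpec n k) a⟩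
  have hPY : IsProper (Y ↘ Spec (CommRingCat.of Ω)) :=
    inferInstanceAs (IsProper (pullback.snd (CohB1.ProjSpace.toSpec n k) a))
  let c : C ⟶ Y := pullback.lift μ q ha
  have hcs : c ≫ pullback.snd (CohB1.ProjSpace.toSpec n k) a = q := pullback.lift_snd _ _ _
  have hcf : c ≫ pullback.fst (CohB1.ProjSpace.toSpec n k) a = μ := pullback.lift_fst _ _ _
  have hc : IsProper c := by
    have : IsProper (c ≫ pullback.snd (CohB1.ProjSpace.toSpec n k) a) := by rw [hcs]; exact hP
    exact IsProper.of_comp c (pullback.snd (CohB1.ProjSpace.toSpec n k) a)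
  let MY : Y.Modules := (Scheme.Modules.pullback (pullback.fst (CohB1.ProjSpace.toSpec n k) a)).obj (O1 n k)
  have haff : IsAffineHom (pullback.fst (CohB1.ProjSpace.toSpec n k) a) := by
    have h1 : IsAffineHom a := inferInstance
    exact MorphismProperty.pullback_fst _ _ h1
  have hMY : CohB1.IsAmple MY := Groth.Agent.Flat2H.FamOpen.isAmple_pullback_of_isAffineHom _
    (Groth.Agent.VarietyA.AmpleField.isAmple_twistProjSpace n k)
  let L : C.Modules := (Scheme.Modules.pullback μ).obj (O1 n k)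
  have hL : PicF.IsInvertible L := isInvertible_pullback μ (isInvertible_O1 n k)
  have eL : (Scheme.Modules.pullback c).obj MY ≅ L :=
    (Scheme.Modules.pullbackComp c (pullback.fst (CohB1.ProjSpace.toSpec n k) a)).app _ ≪≫
      (Scheme.Modules.pullbackCongr hcf).app _
  -- ampleness
  have hA : CohB1.IsAmple L := by
    refine AmpleComp.isAmple_of_components Ω C L hL fun D hD => ?_
    have hctr : ¬ Ctr c ⟨D, hD⟩ := by
      intro hctr
      apply hns D hD
      rintro _ ⟨y, hy, rfl⟩ _ ⟨z, hz, rfl⟩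
      rw [← hcf]
      change pullback.fst (CohB1.ProjSpace.toSpec n k) a (c.base y) =
        pullback.fst (CohB1.ProjSpace.toSpec n k) a (c.base z)
      rw [hctr y hy, hctr z hz]
    have hfin := K900.DegC.isFinite_of_not_ctr hdim.le c ⟨D, hD⟩ hctr
    have h3 : CohB1.IsAmple ((Scheme.Modules.pullback ((IC C D hD).subschemeι ≫ c)).obj MY) :=
      Groth.Agent.Flat2H.FamOpen.isAmple_pullback_of_isAffineHom _ hMY
    refine Groth.Agent.Flat2H.FamDict.isAmple_of_iso ?_ h3
    exact ((Scheme.Modules.pullbackComp (IC C D hD).subschemeι c).symm.app MY) ≪≫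
      (Scheme.Modules.pullback (IC C D hD).subschemeι).mapIso eL
  have hgg : Curv2.IsGloballyGenerated L := by
    have h3 := (GivenBy.refl μ).iSup_genLocus
    refine Groth.Agent.VarietyB.GlobGen.isGloballyGenerated_of_cover (fun i : ULift.{u} (Fin (n + 1)) =>
      homOf (Groth.Agent.Ega2.H295.PnCoord.tsec μ i.down)) fun z => ?_
    have h4 : z ∈ ⨆ i, CohB1.genLocus L (homOf (Groth.Agent.Ega2.H295.PnCoord.tsec μ i)) := by
      rw [h3]
      trivial
    obtain ⟨i, hi⟩ := Opens.mem_iSup.1 h4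
    exact ⟨⟨i⟩, hi⟩
  have hfin1 := Groth.Agent.S0002.result Ω C (Coh.structureModule C) (UnitCoh.isCoh_unit C) 1
  have h1 : Subsingleton (Coh.HH C (Coh.structureModule C) 1) := Module.finrank_zero_iff.mp hg'
  have h0 : Module.finrank Ω (Coh.HH C (Coh.structureModule C) 0) = 1 := K326.DegPts.finrank_zero Ω C
  obtain ⟨x, c', U, V, s, t₁, r, t₂, hcov, hUa, hVa, hU, hV, e1, e2, e3, e4, P1, P2⟩ :=
    ConSec.exists_sections Ω hdim hA hgg h0 h1 hdeg
  refine ⟨cf c', x, isCon hL hcov (s := s) (t₁ := t₁) (r := r) (t₂ := t₂)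
    ⟨hUa, hU, e1, e3, P1, by decide⟩ ⟨hVa, hV, e2, e4, P2, by decide⟩⟩

/-- Node D2: a stable map of genus `0` and degree `2` without marked points is a map from a conic. -/
theorem exists_isCon_of_isStableMap : ∃ (c : Fin 5 → Γ(Spec (CommRingCat.of Ω), ⊤))
    (x : Fin 3 → Γ((Scheme.Modules.pullback μ).obj (O1 n k), ⊤)),
    IsCon c q ((Scheme.Modules.pullback μ).obj (O1 n k)) x :=
  exists_isCon Ω q p μ a ha h hdeg fun E hE => K681.ConF.not_subsingleton_of_isStableMap Ω q p μ a ha h hdeg E hE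

end Main

end K666.ConG
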