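import Mathlib

/-!
# The algebra of a double cover of the projective line with `h⁰ = 1`, `h¹ = 0`

`A₁`, `A₂` are `k`-algebras with injective maps to `B`, `s ∈ A₁`, `r ∈ A₂` with `s r = 1` in `B`, `B = A₁[1/s] = A₂[1/r]`,
`A₁ ∩ A₂ = k`, `A₁ + A₂ = B` and `A₁ ∩ s A₂` of dimension three, with basis `1, s, t`.  Then `A₁ = k[s] ⊕ k[s] t` and
`t² ∈ k t + k s t + k + k s + k s²`.
-/

set_option autoImplicit false

open Polynomial

namespace K666.ConAlg

variable {k A₁ A₂ B : Type*} [Field k] [CommRing A₁] [CommRing A₂] [CommRing B]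
  [Algebra k A₁] [Algebra k A₂] [Algebra k B]

/-- The data: two algebras glued along `s = 1 / r`. -/
structure Glue (i₁ : A₁ →ₐ[k] B) (i₂ : A₂ →ₐ[k] B) (s : A₁) (r : A₂) : Prop where
  inj₁ : Function.Injective i₁
  inj₂ : Function.Injective i₂
  mul_eq : i₁ s * i₂ r = 1
  loc₁ : ∀ b : B, ∃ (n : ℕ) (a : A₁), b * i₁ s ^ n = i₁ a
  loc₂ : ∀ b : B, ∃ (n : ℕ) (a : A₂), b * i₂ r ^ n = i₂ a
  H0 : ∀ (a : A₁) (a' : A₂), i₁ a = i₂ a' → ∃ c : k, i₁ a = algebraMap k B c
  H1 : ∀ b : B, ∃ (a : A₁) (a' : A₂), b = i₁ a + i₂ a'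

variable {i₁ : A₁ →ₐ[k] B} {i₂ : A₂ →ₐ[k] B} {s : A₁} {r : A₂}

theorem Glue.symm (h : Glue i₁ i₂ s r) : Glue i₂ i₁ r s where
  inj₁ := h.inj₂
  inj₂ := h.inj₁
  mul_eq := by rw [mul_comm]; exact h.mul_eq
  loc₁ := h.loc₂
  loc₂ := h.loc₁
  H0 := fun a a' e => by
    obtain ⟨c, hc⟩ := h.H0 a' a e.symm
    exact ⟨c, e.trans hc⟩
  H1 := fun b => by
    obtain ⟨a, a', e⟩ := h.H1 b
    exact ⟨a', a, by rw [e, add_comm]⟩

variable (i₁ i₂ r) in
/-- `A₁ ∩ sⁿ A₂`. -/
def V (n : ℕ) : Submodule k B :=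
  LinearMap.range i₁.toLinearMap ⊓ (LinearMap.range i₂.toLinearMap).comap (LinearMap.mulRight k (i₂ r ^ n))

theorem mem_V {n : ℕ} {b : B} : b ∈ V i₁ i₂ r n ↔ (∃ a, i₁ a = b) ∧ ∃ a, i₂ a = b * i₂ r ^ n := by
  simp [V]

section

variable (h : Glue i₁ i₂ s r)
include h

theorem mem_V_zero {b : B} (hb : b ∈ V i₁ i₂ r 0) : ∃ c : k, b = algebraMap k B c := by
  rw [mem_V, pow_zero, mul_one] at hb
  obtain ⟨⟨a, rfl⟩, a', ha'⟩ := hb
  exact h.H0 a a' ha'.symm

omit h in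
theorem V_succ {n : ℕ} {b : B} (hb : b ∈ V i₁ i₂ r n) : b ∈ V i₁ i₂ r (n + 1) := by
  rw [mem_V] at hb ⊢
  obtain ⟨h1, a, ha⟩ := hb
  exact ⟨h1, a * r, by rw [map_mul, ha]; ring⟩

omit h in
theorem V_mono {n m : ℕ} (hnm : n ≤ m) {b : B} (hb : b ∈ V i₁ i₂ r n) : b ∈ V i₁ i₂ r m := by
  induction m, hnm using Nat.le_induction with
  | base => exact hb
  | succ m _ ih => exact V_succ ih

theorem mul_mem {n : ℕ} {b : B} (hb : b ∈ V i₁ i₂ r n) : i₁ s * b ∈ V i₁ i₂ r (n + 1) := by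
  rw [mem_V] at hb ⊢
  obtain ⟨⟨a, ha⟩, a', ha'⟩ := hb
  refine ⟨⟨s * a, by rw [map_mul, ha]⟩, a', ?_⟩
  rw [ha', pow_succ]
  linear_combination (- b * i₂ r ^ n) * h.mul_eq

theorem exists_add {n : ℕ} {b : B} (hb : b ∈ V i₁ i₂ r (n + 2)) :
    ∃ u ∈ V i₁ i₂ r (n + 1), ∃ v ∈ V i₁ i₂ r (n + 1), b = u + i₁ s * v := by
  rw [mem_V] at hb
  obtain ⟨⟨a₀, h0⟩, g, hg⟩ := hb
  obtain ⟨a, a', haa⟩ := h.H1 (b * i₂ r ^ (n + 1))
  have e1 : ∀ m : ℕ, i₁ s ^ m * i₂ r ^ m = 1 := fun m => by rw [← mul_pow, h.mul_eq, one_pow]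
  have hbr : b * i₂ r = i₁ s ^ n * i₁ a + i₁ s ^ n * i₂ a' := by
    rw [← mul_add, ← haa]
    linear_combination (- b * i₂ r) * e1 n
  have hv : (i₁ s ^ n * i₁ a) * i₂ r ^ (n + 1) = i₂ g - i₂ r * i₂ a' := by
    have h2 : i₁ s ^ n * i₁ a = b * i₂ r - i₁ s ^ n * i₂ a' := by rw [hbr]; ring
    rw [h2, hg]
    linear_combination (- i₂ a' * i₂ r) * e1 n
  have hb' : b - i₁ s * (i₁ s ^ n * i₁ a) = i₁ s ^ (n + 1) * i₂ a' := by
    have h3 : b = i₁ s * (b * i₂ r) := by linear_combination (- b) * h.mul_eq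
    rw [h3, hbr]
    ring
  refine ⟨b - i₁ s * (i₁ s ^ n * i₁ a), ?_, i₁ s ^ n * i₁ a, ?_, by ring⟩
  · rw [mem_V]
    refine ⟨⟨a₀ - s * (s ^ n * a), by simp only [map_sub, map_mul, map_pow, h0]⟩, a', ?_⟩
    rw [hb']
    linear_combination (- i₂ a') * e1 (n + 1)
  · rw [mem_V]
    refine ⟨⟨s ^ n * a, by simp only [map_mul, map_pow]⟩, g - r * a', ?_⟩
    rw [hv, map_sub, map_mul]

/-- `(u, v) ↦ u + s v`. -/
def Φ (n : ℕ) : (V i₁ i₂ r n × V i₁ i₂ r n) →ₗ[k] V i₁ i₂ r (n + 1) :=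
  LinearMap.coprod (Submodule.inclusion fun _ hb => V_succ hb)
    (LinearMap.codRestrict _ ((LinearMap.mulLeft k (i₁ s)).comp (Submodule.subtype _)) fun b => mul_mem h b.2)

theorem Φ_apply (n : ℕ) (u v : V i₁ i₂ r n) : (Φ h n (u, v) : B) = u + i₁ s * v := by
  simp [Φ]

theorem Φ_surjective (n : ℕ) : Function.Surjective (Φ h (n + 1)) := by
  rintro ⟨b, hb⟩
  obtain ⟨u, hu, v, hv, e⟩ := exists_add h hb
  exact ⟨(⟨u, hu⟩, ⟨v, hv⟩), Subtype.ext ((Φ_apply h _ _ _).trans e.symm)⟩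

/-- `w ↦ (s w, - w)`. -/
def Ψ (n : ℕ) : V i₁ i₂ r n →ₗ[k] (V i₁ i₂ r (n + 1) × V i₁ i₂ r (n + 1)) :=
  LinearMap.prod (LinearMap.codRestrict _ ((LinearMap.mulLeft k (i₁ s)).comp (Submodule.subtype _))
    fun b => mul_mem h b.2) (- Submodule.inclusion fun _ hb => V_succ hb)

theorem ker_Φ (n : ℕ) : LinearMap.ker (Φ h (n + 1)) = LinearMap.range (Ψ h n) := by
  ext ⟨u, v⟩
  rw [LinearMap.mem_ker, LinearMap.mem_range]
  constructor
  · intro e
    have e1 : (u : B) + i₁ s * v = 0 := by rw [← Φ_apply h]; exact congrArg Subtype.val e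
    have hw : -(v : B) ∈ V i₁ i₂ r n := by
      have hu := mem_V.1 u.2
      have hv := mem_V.1 v.2
      obtain ⟨⟨a, ha⟩, -⟩ := hv
      obtain ⟨-, a', ha'⟩ := hu
      rw [mem_V]
      refine ⟨⟨-a, by rw [map_neg, ha]⟩, a', ?_⟩
      rw [ha', pow_succ]
      have : (u : B) = - (i₁ s * v) := by linear_combination e1
      rw [this]
      linear_combination (- (v : B) * i₂ r ^ n) * h.mul_eq
    refine ⟨⟨_, hw⟩, Prod.ext (Subtype.ext ?_) (Subtype.ext ?_)⟩
    · change i₁ s * (-(v : B)) = u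
      linear_combination - e1
    · change -(-(v : B)) = v
      ring
  · rintro ⟨w, hw⟩
    apply Subtype.ext
    rw [Φ_apply]
    have h1 : (u : B) = i₁ s * w := congrArg (fun x => (x.1 : B)) hw.symm
    have h2 : (v : B) = - w := congrArg (fun x => (x.2 : B)) hw.symm
    rw [h1, h2]
    change _ = (0 : B)
    ring

theorem Ψ_injective (n : ℕ) : Function.Injective (Ψ h n) := by
  rw [injective_iff_map_eq_zero]
  intro w hw
  have h2 : - (w : B) = 0 := congrArg (fun x => (x.2 : B)) hw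
  exact Subtype.ext (neg_eq_zero.1 h2)

theorem finiteDimensional_zero : FiniteDimensional k (V i₁ i₂ r 0) := by
  have : V i₁ i₂ r 0 ≤ LinearMap.range (Algebra.linearMap k B) := fun b hb => by
    obtain ⟨c, hc⟩ := mem_V_zero h hb
    exact ⟨c, hc.symm⟩
  exact Submodule.finiteDimensional_of_le this

variable (h3 : Module.finrank k (V i₁ i₂ r 1) = 3)
include h3

omit h in
theorem nontrivial : Nontrivial B := by
  by_contra hcon
  rw [not_nontrivial_iff_subsingleton] at hcon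
  have : Subsingleton (V i₁ i₂ r 1) := inferInstance
  rw [Module.finrank_zero_of_subsingleton] at h3
  omega

theorem finrank_zero : Module.finrank k (V i₁ i₂ r 0) = 1 := by
  have hB := nontrivial h3
  have h1 : V i₁ i₂ r 0 = Submodule.span k {(1 : B)} := by
    apply le_antisymm
    · intro b hb
      obtain ⟨c, rfl⟩ := mem_V_zero h hb
      rw [Submodule.mem_span_singleton]
      exact ⟨c, by rw [Algebra.smul_def, mul_one]⟩
    · rw [Submodule.span_singleton_le_iff_mem, mem_V]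
      exact ⟨⟨1, map_one _⟩, 1, by rw [map_one, pow_zero, mul_one]⟩
  rw [h1]
  exact finrank_span_singleton one_ne_zero

theorem finiteDimensional (n : ℕ) : FiniteDimensional k (V i₁ i₂ r n) ∧ FiniteDimensional k (V i₁ i₂ r (n + 1)) := by
  induction n with
  | zero => exact ⟨finiteDimensional_zero h, FiniteDimensional.of_finrank_eq_succ h3⟩
  | succ n ih =>
    obtain ⟨-, h1⟩ := ih
    exact ⟨h1, Module.Finite.of_surjective _ (Φ_surjective h n)⟩

theorem finrank_V (n : ℕ) : Module.finrank k (V i₁ i₂ r n) = 2 * n + 1 ∧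
    Module.finrank k (V i₁ i₂ r (n + 1)) = 2 * n + 3 := by
  induction n with
  | zero => exact ⟨by rw [finrank_zero h h3], by rw [h3]⟩
  | succ n ih =>
    refine ⟨by rw [ih.2]; ring, ?_⟩
    have h1 := (finiteDimensional h h3 n).1
    have h2 := (finiteDimensional h h3 n).2
    have e1 := LinearMap.finrank_range_add_finrank_ker (Φ h (n + 1))
    rw [ker_Φ, LinearMap.finrank_range_of_inj (Ψ_injective h n), LinearMap.range_eq_top.2 (Φ_surjective h n),
      finrank_top, Module.finrank_prod, ih.1, ih.2] at e1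
    omega

/-- `1` and `s` are independent. -/
theorem linearIndependent : LinearIndependent k ![(1 : B), i₁ s] := by
  have hB := nontrivial h3
  rw [LinearIndependent.pair_iff]
  intro a b hab
  by_cases hb : b = 0
  · subst hb
    rw [zero_smul, add_zero, Algebra.smul_def, mul_one] at hab
    refine ⟨?_, rfl⟩
    exact (algebraMap k B).injective (hab.trans (map_zero _).symm)
  · exfalso
    have hs : i₁ s = algebraMap k B (- a / b) := by
      rw [Algebra.smul_def, Algebra.smul_def, mul_one] at hab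
      have h4 : algebraMap k B b * i₁ s = algebraMap k B b * algebraMap k B (- a / b) := by
        rw [← map_mul, mul_div_cancel₀ _ hb, map_neg]
        linear_combination hab
      have hbu : IsUnit (algebraMap k B b) := (IsUnit.mk0 b hb).map _
      exact hbu.mul_left_cancel h4
    have hle : V i₁ i₂ r 1 ≤ V i₁ i₂ r 0 := by
      intro x hx
      rw [mem_V] at hx ⊢
      obtain ⟨h5, a', ha'⟩ := hx
      refine ⟨h5, algebraMap k A₂ (- a / b) * a', ?_⟩
      rw [map_mul, AlgHom.commutes, ← hs, ha']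
      linear_combination x * h.mul_eq
    have h1 := (finiteDimensional h h3 0).1
    have h6 := Submodule.finrank_mono hle
    rw [h3, finrank_zero h h3] at h6
    omega

theorem exists_t : ∃ t : A₁, i₁ t ∈ V i₁ i₂ r 1 ∧ V i₁ i₂ r 1 ≤ Submodule.span k {1, i₁ s, i₁ t} := by
  have hfd := (finiteDimensional h h3 0).2
  have h1 : (1 : B) ∈ V i₁ i₂ r 1 := mem_V.2 ⟨⟨1, map_one _⟩, r, by rw [one_mul, pow_one]⟩
  have h2 : i₁ s ∈ V i₁ i₂ r 1 := mem_V.2 ⟨⟨s, rfl⟩, 1, by rw [map_one, pow_one, h.mul_eq]⟩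
  have hli := linearIndependent h h3
  have hle : Submodule.span k (Set.range ![(1 : B), i₁ s]) ≤ V i₁ i₂ r 1 := by
    rw [Submodule.span_le]
    rintro _ ⟨i, rfl⟩
    fin_cases i
    · exact h1
    · exact h2
  have hne : ¬ V i₁ i₂ r 1 ≤ Submodule.span k (Set.range ![(1 : B), i₁ s]) := by
    intro hcon
    have hfs : FiniteDimensional k (Submodule.span k (Set.range ![(1 : B), i₁ s])) :=
      FiniteDimensional.span_of_finite k (Set.finite_range _)
    have := Submodule.finrank_mono hcon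
    rw [h3, finrank_span_eq_card hli] at this
    simp at this
  obtain ⟨b, hb, hbn⟩ := Set.not_subset.1 hne
  obtain ⟨t, rfl⟩ := (mem_V.1 hb).1
  refine ⟨t, hb, ?_⟩
  have hli3 : LinearIndependent k ![i₁ t, 1, i₁ s] :=
    (linearIndependent_finCons (v := ![(1 : B), i₁ s]) (x := i₁ t)).2 ⟨hli, hbn⟩
  have hle3 : Submodule.span k (Set.range ![i₁ t, 1, i₁ s]) ≤ V i₁ i₂ r 1 := by
    rw [Submodule.span_le]
    rintro _ ⟨i, rfl⟩
    fin_cases i
    · exact hb
    · exact h1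
    · exact h2
  have heq : Submodule.span k (Set.range ![i₁ t, 1, i₁ s]) = V i₁ i₂ r 1 := by
    apply Submodule.eq_of_le_of_finrank_eq hle3
    rw [h3, finrank_span_eq_card hli3]
    simp
  rw [← heq]
  apply Submodule.span_mono
  rintro _ ⟨i, rfl⟩
  fin_cases i <;> simp

variable {t : A₁} (ht : i₁ t ∈ V i₁ i₂ r 1) (hspan : V i₁ i₂ r 1 ≤ Submodule.span k {1, i₁ s, i₁ t})

omit h h3 in
include hspan in
theorem exists_comb {b : B} (hb : b ∈ V i₁ i₂ r 1) : ∃ x y z : k, b = algebraMap k B x + algebraMap k B y * i₁ s +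
    algebraMap k B z * i₁ t := by
  have h1 := hspan hb
  rw [Submodule.mem_span_triple] at h1
  obtain ⟨x, y, z, rfl⟩ := h1
  exact ⟨x, y, z, by simp only [Algebra.smul_def, mul_one]⟩

omit h3 in
include ht hspan in
/-- The quadratic relation. -/
theorem exists_rel : ∃ c : Fin 5 → k, t ^ 2 + algebraMap k A₁ (c 0) * t + algebraMap k A₁ (c 1) * (s * t) +
    algebraMap k A₁ (c 2) + algebraMap k A₁ (c 3) * s + algebraMap k A₁ (c 4) * s ^ 2 = 0 := by
  have h2 : i₁ t ^ 2 ∈ V i₁ i₂ r (0 + 2) := by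
    rw [mem_V] at ht ⊢
    obtain ⟨-, a, ha⟩ := ht
    exact ⟨⟨t ^ 2, map_pow _ _ _⟩, a ^ 2, by rw [map_pow, ha]; ring⟩
  obtain ⟨u, hu, v, hv, e⟩ := exists_add h h2
  obtain ⟨x, y, z, rfl⟩ := exists_comb hspan hu
  obtain ⟨x', y', z', rfl⟩ := exists_comb hspan hv
  refine ⟨![-z, -z', -x, -(y + x'), -y'], ?_⟩
  apply h.inj₁
  have hc : ∀ c : k, i₁ (algebraMap k A₁ c) = algebraMap k B c := fun c => AlgHom.commutes i₁ c
  simp only [map_add, map_mul, map_pow, map_zero, hc, Matrix.cons_val_zero, Matrix.cons_val_one, Matrix.cons_val,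
    map_neg]
  linear_combination e

/-- `(f, g) ↦ f(s) + g(s) t`. -/
noncomputable def Θ (i₁ : A₁ →ₐ[k] B) (s t : A₁) (n : ℕ) : (degreeLT k (n + 1) × degreeLT k n) →ₗ[k] B :=
  LinearMap.coprod ((aeval (i₁ s)).toLinearMap.comp (Submodule.subtype _))
    ((LinearMap.mulRight k (i₁ t)).comp ((aeval (i₁ s)).toLinearMap.comp (Submodule.subtype _)))

omit h h3 in
theorem Θ_apply (n : ℕ) (f : degreeLT k (n + 1)) (g : degreeLT k n) :
    Θ i₁ s t n (f, g) = aeval (i₁ s) (f : k[X]) + aeval (i₁ s) (g : k[X]) * i₁ t := by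
  simp [Θ]

omit h h3 in
theorem X_mul_mem {n : ℕ} {f : k[X]} (hf : f ∈ degreeLT k n) : X * f ∈ degreeLT k (n + 1) := by
  rw [mem_degreeLT] at hf ⊢
  by_cases h0 : f = 0
  · subst h0
    simp only [mul_zero, degree_zero]
    exact WithBot.bot_lt_coe _
  · rw [degree_mul, degree_X, degree_eq_natDegree h0] at *
    rw [show ((1 : WithBot ℕ) + (f.natDegree : WithBot ℕ)) = ((1 + f.natDegree : ℕ) : WithBot ℕ) by push_cast; rfl]
    have : f.natDegree < n := by exact_mod_cast hf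
    exact_mod_cast (by omega : 1 + f.natDegree < n + 1)

omit h3 in
include hspan in
theorem le_range (n : ℕ) : V i₁ i₂ r n ≤ LinearMap.range (Θ i₁ s t n) ∧
    V i₁ i₂ r (n + 1) ≤ LinearMap.range (Θ i₁ s t (n + 1)) := by
  have hcm : ∀ (c : k) (m : ℕ), C c ∈ degreeLT k (m + 1) := fun c m => by
    rw [mem_degreeLT]
    exact lt_of_le_of_lt degree_C_le (by exact_mod_cast Nat.succ_pos m)
  induction n with
  | zero =>
    constructor
    · intro b hb
      obtain ⟨c, rfl⟩ := mem_V_zero h hb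
      refine ⟨(⟨C c, hcm c 0⟩, 0), ?_⟩
      rw [Θ_apply]
      simp
    · intro b hb
      obtain ⟨x, y, z, rfl⟩ := exists_comb hspan hb
      refine ⟨(⟨C x + X * C y, Submodule.add_mem _ (hcm x 1) (X_mul_mem (hcm y 0))⟩, ⟨C z, hcm z 0⟩), ?_⟩
      rw [Θ_apply]
      simp
  | succ n ih =>
    refine ⟨ih.2, fun b hb => ?_⟩
    obtain ⟨u, hu, v, hv, rfl⟩ := exists_add h hb
    obtain ⟨⟨f, g⟩, rfl⟩ := ih.2 hu
    obtain ⟨⟨f', g'⟩, rfl⟩ := ih.2 hv
    have hm : ∀ {m : ℕ} {f : k[X]}, f ∈ degreeLT k m → f ∈ degreeLT k (m + 1) := fun {m f} hf =>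
      degreeLT_mono (Nat.le_succ m) hf
    refine ⟨(⟨(f : k[X]) + X * (f' : k[X]), Submodule.add_mem _ (hm f.2) (X_mul_mem f'.2)⟩,
      ⟨(g : k[X]) + X * (g' : k[X]), Submodule.add_mem _ (hm g.2) (X_mul_mem g'.2)⟩), ?_⟩
    rw [Θ_apply, Θ_apply, Θ_apply]
    simp
    ring

include ht hspan in
theorem Θ_injective (n : ℕ) : Function.Injective (Θ i₁ s t n) := by
  have h1 := (le_range h hspan n).1
  have hle : ∀ p, Θ i₁ s t n p ∈ V i₁ i₂ r n := by
    have hs : ∀ (m : ℕ) (f : k[X]), f ∈ degreeLT k (m + 1) → aeval (i₁ s) f ∈ V i₁ i₂ r m := by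
      intro m f hf
      rw [aeval_eq_sum_range' (n := m + 1) (by
        by_cases h0 : f = 0
        · subst h0; simp
        · rw [mem_degreeLT, degree_eq_natDegree h0] at hf
          exact_mod_cast hf)]
      refine Submodule.sum_mem _ fun j hj => Submodule.smul_mem _ _ ?_
      have : i₁ s ^ j ∈ V i₁ i₂ r j := mem_V.2 ⟨⟨s ^ j, map_pow _ _ _⟩, 1, by
        rw [map_one, ← mul_pow, h.mul_eq, one_pow]⟩
      exact V_mono (Nat.lt_succ_iff.1 (Finset.mem_range.1 hj)) this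
    rintro ⟨f, g⟩
    rw [Θ_apply]
    refine Submodule.add_mem _ (hs n f f.2) ?_
    cases n with
    | zero =>
      have hg : (g : k[X]) = 0 := by
        have := g.2
        rw [mem_degreeLT] at this
        exact degree_eq_bot.1 (by
          by_contra hcon
          have h4 : (0 : WithBot ℕ) ≤ degree (g : k[X]) := by
            rw [degree_eq_natDegree (fun h0 => hcon (by rw [h0, degree_zero]))]
            exact_mod_cast Nat.zero_le _
          exact absurd this (not_lt.2 h4))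
      rw [hg, map_zero, zero_mul]
      exact Submodule.zero_mem _
    | succ m =>
      have h5 := mem_V.1 (hs m g g.2)
      have h6 := mem_V.1 ht
      obtain ⟨⟨a, ha⟩, a', ha'⟩ := h5
      obtain ⟨-, b', hb'⟩ := h6
      refine mem_V.2 ⟨⟨a * t, by rw [map_mul, ha]⟩, a' * b', ?_⟩
      rw [map_mul, ha', hb']
      ring
  let Θ' : (degreeLT k (n + 1) × degreeLT k n) →ₗ[k] V i₁ i₂ r n := LinearMap.codRestrict _ (Θ i₁ s t n) hle
  have hsurj : Function.Surjective Θ' := by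
    rintro ⟨b, hb⟩
    obtain ⟨p, hp⟩ := h1 hb
    exact ⟨p, Subtype.ext hp⟩
  have hf1 := (finiteDimensional h h3 n).1
  have e1 : ∀ m, Module.finrank k (degreeLT k m) = m := fun m => by
    rw [(degreeLTEquiv k m).finrank_eq, Module.finrank_fin_fun]
  have hfd : ∀ m, FiniteDimensional k (degreeLT k m) := fun m =>
    Module.Finite.of_surjective (degreeLTEquiv k m).symm.toLinearMap (degreeLTEquiv k m).symm.surjective
  have := hfd n
  have := hfd (n + 1)
  have hinj : Function.Injective Θ' := by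
    rw [LinearMap.injective_iff_surjective_of_finrank_eq_finrank]
    · exact hsurj
    · rw [Module.finrank_prod, e1, e1, (finrank_V h h3 n).1]
      ring
  intro p p' hp
  exact hinj (Subtype.ext hp)

include ht hspan in
theorem eq_zero {f g : k[X]} (hfg : aeval s f + aeval s g * t = 0) : f = 0 ∧ g = 0 := by
  obtain ⟨n, hf, hg⟩ : ∃ n, f ∈ degreeLT k (n + 1) ∧ g ∈ degreeLT k n := by
    refine ⟨max f.natDegree g.natDegree + 1, ?_, ?_⟩ <;> rw [mem_degreeLT]
    · refine lt_of_le_of_lt degree_le_natDegree ?_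
      exact_mod_cast (by omega)
    · refine lt_of_le_of_lt degree_le_natDegree ?_
      exact_mod_cast (by omega)
  have h1 : Θ i₁ s t n (⟨f, hf⟩, ⟨g, hg⟩) = Θ i₁ s t n 0 := by
    rw [Θ_apply, map_zero]
    have := congrArg i₁ hfg
    rw [map_add, map_mul, map_zero, ← aeval_algHom_apply, ← aeval_algHom_apply] at this
    exact this
  have h2 := Θ_injective h h3 ht hspan n h1
  exact ⟨congrArg (fun p => (p.1 : k[X])) h2, congrArg (fun p => (p.2 : k[X])) h2⟩

omit h3 in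
include hspan in
theorem exists_eq (a : A₁) : ∃ f g : k[X], a = aeval s f + aeval s g * t := by
  obtain ⟨n, a', ha'⟩ := h.loc₂ (i₁ a)
  have h1 : i₁ a ∈ V i₁ i₂ r n := mem_V.2 ⟨⟨a, rfl⟩, a', ha'.symm⟩
  obtain ⟨⟨f, g⟩, hfg⟩ := (le_range h hspan n).1 h1
  refine ⟨f, g, h.inj₁ ?_⟩
  rw [← hfg, Θ_apply, map_add, map_mul, aeval_algHom_apply, aeval_algHom_apply]

end

end K666.ConAlg
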