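import Groth.Agent.Fano.K666.ConPres
import Groth.Agent.Fdesc.LocGen
import Groth.Agent.CurvesB.HZero
import Groth.Agent.CurvesC.MVSec

/-!
# Two sections of an invertible module on a curve with `h⁰(O) = 1`, `h¹(O) = 0`, `h⁰(L) = 3`
-/

set_option autoImplicit false

universe u

open CategoryTheory CategoryTheory.Limits AlgebraicGeometry Opposite TopologicalSpace

namespace K666.ConGeo

open Groth.Agent.Fdesc.LocGen K666.ConAlg Groth.Agent.CurvesB

variable {C : Scheme.{u}}

section gen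

theorem exists_loc {U : C.Opens} (hU : IsAffineOpen U) (a : Γ(C, U)) {W : C.Opens} (hWU : W ≤ U)
    (hW : W = C.basicOpen a) (b : Γ(C, W)) : ∃ (n : ℕ) (a' : Γ(C, U)), b * ores hWU a ^ n = ores hWU a' := by
  subst hW
  obtain ⟨n, y, hy⟩ := exists_eq_pow_mul_of_isAffineOpen C U hU a b
  refine ⟨n, y, ?_⟩
  rw [mul_comm]
  exact hy.symm

theorem res_glue_two (M : C.Modules) {U V : C.Opens} (h : U ⊔ V = ⊤) (a : Γ(M, U)) (b : Γ(M, V))
    (hab : res M (inf_le_left : U ⊓ V ≤ U) a = res M (inf_le_right : U ⊓ V ≤ V) b) :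
    ∃ t : Γ(M, ⊤), res M (le_top : U ≤ ⊤) t = a ∧ res M (le_top : V ≤ ⊤) t = b := by
  obtain ⟨t, ht⟩ := res_glue M (V := ⊤) (fun i : Bool => bif i then U else V) (fun i => le_top) (by
      rw [iSup_bool_eq, ← h]
      rfl) (fun i => match i with
        | true => a
        | false => b) (fun i j => match i, j with
        | true, true => rfl
        | false, false => rfl
        | true, false => hab
        | false, true => by
          have e1 := congrArg (res M (le_inf inf_le_right inf_le_left : V ⊓ U ≤ U ⊓ V)) hab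
          rw [res_res, res_res] at e1
          exact e1.symm)
  exact ⟨t, ht true, ht false⟩

theorem ores_glue_two {U V : C.Opens} (h : U ⊔ V = ⊤) (a : Γ(C, U)) (b : Γ(C, V))
    (hab : ores (inf_le_left : U ⊓ V ≤ U) a = ores (inf_le_right : U ⊓ V ≤ V) b) :
    ∃ t : Γ(C, ⊤), ores (le_top : U ≤ ⊤) t = a ∧ ores (le_top : V ≤ ⊤) t = b :=
  res_glue_two (Coh.structureModule C) h a b hab

theorem res_ext_two (M : C.Modules) {U V : C.Opens} (h : U ⊔ V = ⊤) {a b : Γ(M, ⊤)}
    (h1 : res M (le_top : U ≤ ⊤) a = res M (le_top : U ≤ ⊤) b)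
    (h2 : res M (le_top : V ≤ ⊤) a = res M (le_top : V ≤ ⊤) b) : a = b := by
  refine res_ext M (fun i : Bool => bif i then U else V) (fun i => le_top) (by
      rw [iSup_bool_eq, ← h]
      rfl) (fun i => match i with
        | true => h1
        | false => h2)

theorem ores_injective [IsReduced C] {U V : C.Opens} (hV : Dense (V : Set C)) :
    Function.Injective (ores (inf_le_left : U ⊓ V ≤ U)) := by
  rw [injective_iff_map_eq_zero]
  intro a ha
  rw [← AlgebraicGeometry.basicOpen_eq_bot_iff]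
  by_contra hne
  have hne' : ((C.basicOpen a : C.Opens) : Set C).Nonempty := by
    rw [Set.nonempty_iff_ne_empty]
    intro h0
    exact hne (TopologicalSpace.Opens.ext h0)
  obtain ⟨x, hx1, hx2⟩ := hV.inter_open_nonempty _ (C.basicOpen a).2 hne'
  have h1 : C.basicOpen (ores (inf_le_left : U ⊓ V ≤ U) a) = (U ⊓ V) ⊓ C.basicOpen a :=
    Scheme.basicOpen_res _ _ _
  rw [ha] at h1
  have h2 : x ∈ (U ⊓ V) ⊓ C.basicOpen a := ⟨⟨C.basicOpen_le a hx1, hx2⟩, hx1⟩
  rw [← h1, Scheme.basicOpen_zero] at h2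
  exact h2

end gen

variable {k : Type u} [Field k] [C.Over (Spec (CommRingCat.of k))]

variable (k) in
/-- constants -/
noncomputable def co (U : C.Opens) : k →+* Γ(C, U) := (ores (le_top : U ≤ ⊤)).comp (HZero.gl k C)

theorem ores_co {U V : C.Opens} (h : V ≤ U) (a : k) : ores h (co k U a) = co k V a := by
  simp only [co, RingHom.comp_apply, ores_ores]

variable (k) in
/-- The algebra structure on functions. -/
noncomputable abbrev alg (U : C.Opens) : Algebra k Γ(C, U) := (co k U).toAlgebra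

variable (k) in
/-- Restriction as a homomorphism of algebras. -/
noncomputable def oresA {U V : C.Opens} (h : V ≤ U) :
    letI := alg k U; letI := alg k V; Γ(C, U) →ₐ[k] Γ(C, V) :=
  letI := alg k U
  letI := alg k V
  { ores h with commutes' := fun a => ores_co h a }

section glue

variable [IsReduced C] (h0 : Module.finrank k (Coh.HH C (Coh.structureModule C) 0) = 1)
  (h1 : Subsingleton (Coh.HH C (Coh.structureModule C) 1)) {U V : C.Opens} (hcov : U ⊔ V = ⊤)
  (hU : IsAffineOpen U) (hV : IsAffineOpen V) (dU : Dense (U : Set C)) (dV : Dense (V : Set C))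
  (s : Γ(C, U)) (r : Γ(C, V)) (hs : U ⊓ V = C.basicOpen s) (hr : U ⊓ V = C.basicOpen r)
  (hsr : ores (inf_le_left : U ⊓ V ≤ U) s * ores (inf_le_right : U ⊓ V ≤ V) r = 1)

include h0 h1 hcov hU hV dU dV hs hr hsr

theorem glue : letI := alg k U; letI := alg k V; letI := alg k (U ⊓ V)
    Glue (oresA k (inf_le_left : U ⊓ V ≤ U)) (oresA k (inf_le_right : U ⊓ V ≤ V)) s r := by
  let _ := alg k U
  let _ := alg k V
  let _ := alg k (U ⊓ V)
  refine ⟨ores_injective dV, ?_, hsr, fun b => exists_loc hU s _ hs b, fun b => exists_loc hV r _ hr b, ?_, ?_⟩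
  · have h2 : Function.Injective (ores (inf_le_left : V ⊓ U ≤ V)) := ores_injective dU
    intro a b hab
    apply h2
    have h3 := congrArg (ores (le_inf inf_le_right inf_le_left : V ⊓ U ≤ U ⊓ V)) hab
    change ores _ (ores _ a) = ores _ (ores _ b) at h3
    rwa [ores_ores, ores_ores] at h3
  · intro a a' haa
    obtain ⟨t, ht1, -⟩ := ores_glue_two hcov a a' haa
    obtain ⟨c, rfl⟩ := HZero.exists_const k h0 t
    refine ⟨c, ?_⟩
    change ores _ a = co k (U ⊓ V) c
    rw [← ht1]
    exact ores_ores _ _ _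
  · intro b
    obtain ⟨a, a', haa⟩ := Groth.Agent.CurvesC.MVSec.exists_sub_function h1 hcov b
    refine ⟨a, -a', ?_⟩
    rw [← haa, map_neg, ← sub_eq_add_neg]
    rfl

end glue

section rank

variable {L : C.Modules} {U V : C.Opens} (hcov : U ⊔ V = ⊤) (x y : Γ(L, ⊤))
  (hx : IsGen (res L (le_top : U ≤ ⊤) x)) (hy : IsGen (res L (le_top : V ≤ ⊤) y))
  (s : Γ(C, U)) (r : Γ(C, V)) (hs : res L (le_top : U ≤ ⊤) y = s • res L (le_top : U ≤ ⊤) x)
  (hr : res L (le_top : V ≤ ⊤) x = r • res L (le_top : V ≤ ⊤) y)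

include hy hs hr

omit [C.Over (Spec (CommRingCat.of k))] in
theorem mul_eq_one : ores (inf_le_left : U ⊓ V ≤ U) s * ores (inf_le_right : U ⊓ V ≤ V) r = 1 := by
  have e1 := congrArg (res L (inf_le_left : U ⊓ V ≤ U)) hs
  have e2 := congrArg (res L (inf_le_right : U ⊓ V ≤ V)) hr
  rw [res_smul, res_res, res_res] at e1 e2
  have h3 : IsGen (res L (le_top : U ⊓ V ≤ ⊤) y) := by
    have := hy.res (inf_le_right : U ⊓ V ≤ V)
    rwa [res_res] at this
  apply h3.ext
  rw [one_smul, mul_smul, ← e2, ← e1]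

include hx hcov in
theorem finrank_V [IsReduced C] (dU : Dense (U : Set C)) (dV : Dense (V : Set C)) : letI := alg k U; letI := alg k V; letI := alg k (U ⊓ V)
    Module.finrank k (ConAlg.V (oresA k (inf_le_left : U ⊓ V ≤ U)) (oresA k (inf_le_right : U ⊓ V ≤ V)) r 1) =
      Module.finrank k (Coh.HH C L 0) := by
  let _ := alg k U
  let _ := alg k V
  let _ := alg k (U ⊓ V)
  let _ := HZero.moduleΓ k L
  let _ : Module k Γ(L, U ⊓ V) := Module.compHom Γ(L, U ⊓ V) (co k (U ⊓ V))
  rw [(HZero.equivLin k L).finrank_eq]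
  have hx' : IsGen (res L (le_top : U ⊓ V ≤ ⊤) x) := by
    have := hx.res (inf_le_left : U ⊓ V ≤ U)
    rwa [res_res] at this
  have hy' : IsGen (res L (le_top : U ⊓ V ≤ ⊤) y) := by
    have := hy.res (inf_le_right : U ⊓ V ≤ V)
    rwa [res_res] at this
  have hsm : ∀ (c : k) (m : Γ(L, U ⊓ V)), c • m = (co k (U ⊓ V) c) • m := fun _ _ => rfl
  have hsm' : ∀ (c : k) (m : Γ(L, ⊤)), c • m = (HZero.gl k C c) • m := fun _ _ => rfl
  have hr' : res L (le_top : U ⊓ V ≤ ⊤) x = ores (inf_le_right : U ⊓ V ≤ V) r • res L (le_top : U ⊓ V ≤ ⊤) y := by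
    have e2 := congrArg (res L (inf_le_right : U ⊓ V ≤ V)) hr
    rwa [res_smul, res_res, res_res] at e2
  have hs' : res L (le_top : U ⊓ V ≤ ⊤) y = ores (inf_le_left : U ⊓ V ≤ U) s • res L (le_top : U ⊓ V ≤ ⊤) x := by
    have e2 := congrArg (res L (inf_le_left : U ⊓ V ≤ U)) hs
    rwa [res_smul, res_res, res_res] at e2
  -- the two maps to the sections over the intersection
  let φ : Γ(C, U ⊓ V) →ₗ[k] Γ(L, U ⊓ V) :=
    { toFun := fun b => b • res L le_top x
      map_add' := fun a b => add_smul a b _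
      map_smul' := fun c b => by
        rw [RingHom.id_apply, hsm, ← mul_smul]
        rfl }
  let ψ : Γ(L, ⊤) →ₗ[k] Γ(L, U ⊓ V) :=
    { toFun := res L le_top
      map_add' := map_add _
      map_smul' := fun c b => by
        rw [RingHom.id_apply, hsm, hsm', res_smul]
        rfl }
  have hφ : Function.Injective φ := fun a b hab => hx'.ext hab
  have hcoef : ∀ z : Γ(L, ⊤), ∃ (a : Γ(C, U)) (a' : Γ(C, V)), res L (le_top : U ≤ ⊤) z = a • res L le_top x ∧
      res L (le_top : V ≤ ⊤) z = a' • res L le_top y ∧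
      ores (inf_le_right : U ⊓ V ≤ V) a' = ores inf_le_left a * ores (inf_le_right : U ⊓ V ≤ V) r := by
    intro z
    obtain ⟨a, ha⟩ := hx.exists_eq (res L (le_top : U ≤ ⊤) z)
    obtain ⟨a', ha'⟩ := hy.exists_eq (res L (le_top : V ≤ ⊤) z)
    refine ⟨a, a', ha, ha', ?_⟩
    apply hy'.ext
    have e1 := congrArg (res L (inf_le_left : U ⊓ V ≤ U)) ha
    have e2 := congrArg (res L (inf_le_right : U ⊓ V ≤ V)) ha'
    rw [res_smul, res_res, res_res] at e1 e2
    rw [mul_smul, ← hr', ← e1, ← e2]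
  have hrange : (ConAlg.V (oresA k (inf_le_left : U ⊓ V ≤ U)) (oresA k (inf_le_right : U ⊓ V ≤ V)) r 1).map φ =
      LinearMap.range ψ := by
    ext z
    rw [Submodule.mem_map, LinearMap.mem_range]
    constructor
    · rintro ⟨b, hb, rfl⟩
      rw [mem_V, pow_one] at hb
      obtain ⟨⟨a, ha⟩, a', ha'⟩ := hb
      have ha : ores inf_le_left a = b := ha
      have ha' : ores inf_le_right a' = b * ores inf_le_right r := ha'
      obtain ⟨t, ht1, ht2⟩ := res_glue_two L hcov (a • res L le_top x) (a' • res L le_top y) (by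
        rw [res_smul, res_smul, res_res, res_res, ha, ha', mul_smul, ← hr'])
      refine ⟨t, ?_⟩
      change res L (le_top : U ⊓ V ≤ ⊤) t = b • res L (le_top : U ⊓ V ≤ ⊤) x
      rw [← res_res L (le_top : U ≤ ⊤) (inf_le_left : U ⊓ V ≤ U) t, ht1, res_smul, res_res, ha]
    · rintro ⟨t, rfl⟩
      obtain ⟨a, a', ha, ha', haa⟩ := hcoef t
      refine ⟨ores inf_le_left a, mem_V.2 ⟨⟨a, rfl⟩, a', by rw [pow_one]; exact haa⟩, ?_⟩
      change ores (inf_le_left : U ⊓ V ≤ U) a • res L (le_top : U ⊓ V ≤ ⊤) x = res L (le_top : U ⊓ V ≤ ⊤) t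
      rw [← res_res L (le_top : U ≤ ⊤) (inf_le_left : U ⊓ V ≤ U) t, ha, res_smul, res_res]
  have hψ : Function.Injective ψ := by
    rw [injective_iff_map_eq_zero]
    intro z hz
    have hz : res L (le_top : U ⊓ V ≤ ⊤) z = 0 := hz
    obtain ⟨a, a', ha, ha', haa⟩ := hcoef z
    have e1 := congrArg (res L (inf_le_left : U ⊓ V ≤ U)) ha
    rw [res_smul, res_res, res_res, hz] at e1
    have h1 : ores (inf_le_left : U ⊓ V ≤ U) a = 0 := hx'.ext (by rw [zero_smul, ← e1])
    have h2 : a = 0 := ores_injective dV (by rw [h1, map_zero])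
    rw [h1, zero_mul] at haa
    have h3 : a' = 0 := by
      apply ores_injective (U := V) (V := U) dU
      have h4 := congrArg (ores (le_inf inf_le_right inf_le_left : V ⊓ U ≤ U ⊓ V)) haa
      rw [ores_ores, map_zero] at h4
      rw [map_zero]
      exact h4
    refine res_ext_two L hcov ?_ ?_
    · rw [ha, h2, zero_smul, map_zero]
    · rw [ha', h3, zero_smul, map_zero]
  have e1 := (Submodule.equivMapOfInjective φ hφ (ConAlg.V (oresA k (inf_le_left : U ⊓ V ≤ U))
    (oresA k (inf_le_right : U ⊓ V ≤ V)) r 1)).finrank_eq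
  rw [e1, hrange, LinearMap.finrank_range_of_inj hψ]

end rank

end K666.ConGeo
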