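import Groth.Agent.Fano.K666.ConMap
import Mathlib.AlgebraicGeometry.ZariskisMainTheorem

/-!
# A proper scheme covered by two charts of a double cover of the line is a plane conic
-/

set_option autoImplicit false

universe u

open CategoryTheory CategoryTheory.Limits AlgebraicGeometry Opposite TopologicalSpace

namespace K666.ConIs

open K390.PnSec Groth.Agent.Fdesc.LocGen Groth.Agent.Dix.ProjProper K188.LineDef K745.ConDef K666.ConAlg
open K666.ConMap

variable {C Y P : Scheme.{u}}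

/-- A morphism factors through a monomorphism if it does so locally on the source. -/
theorem exists_lift_of_mono (ι : C ⟶ P) [Mono ι] (r : Y ⟶ P)
    (H : ∀ y : Y, ∃ (W : Y.Opens) (_ : y ∈ W) (f : W.toScheme ⟶ C), f ≫ ι = W.ι ≫ r) :
    ∃ f : Y ⟶ C, f ≫ ι = r := by
  choose W hW f hf using H
  let 𝒰 : Y.OpenCover := {
    I₀ := Y, X i := (W i), f i := (W i).ι,
    mem₀ := by
      rw [Scheme.presieve₀_mem_precoverage_iff]
      refine ⟨fun x ↦ ⟨x, by simpa using hW x⟩, inferInstance⟩ }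
  have hc : ∀ a b, pullback.fst (𝒰.f a) (𝒰.f b) ≫ f a = pullback.snd (𝒰.f a) (𝒰.f b) ≫ f b := by
    intro a b
    rw [← cancel_mono ι, Category.assoc, Category.assoc, hf, hf]
    change pullback.fst (𝒰.f a) (𝒰.f b) ≫ 𝒰.f a ≫ r = pullback.snd (𝒰.f a) (𝒰.f b) ≫ 𝒰.f b ≫ r
    rw [← Category.assoc, pullback.condition, Category.assoc]
  refine ⟨𝒰.glueMorphisms f hc, ?_⟩
  refine 𝒰.hom_ext _ _ fun a => ?_
  rw [← Category.assoc, 𝒰.ι_glueMorphisms]
  exact hf a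

/-- The sheaf `O(1)` on the projective plane over `T`. -/
noncomputable abbrev O2 (T : Scheme.{u}) : (P2 T).Modules := (Scheme.Modules.pullback (toZ 2 T)).obj (O1 2 Z.{u})

theorem givenBy_crd {T : Scheme.{u}} (r : Y ⟶ P2 T) :
    GivenBy (r ≫ toZ 2 T) ((Scheme.Modules.pullback r).obj (O2 T)) (fun i => pullTop r (crd 2 T i)) :=
  (GivenBy.refl (toZ 2 T)).comp r

theorem eval_qf {A B : Type u} [CommRing A] [CommRing B] (ρ : A →+* B) (c : Fin 5 → A) (a : Fin 3 → B) :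
    MvPolynomial.eval₂ ρ a (qf c) = a 0 ^ 2 + ρ (c 0) * (a 0 * a 1) + ρ (c 1) * (a 0 * a 2) + ρ (c 2) * a 1 ^ 2 +
      ρ (c 3) * (a 1 * a 2) + ρ (c 4) * a 2 ^ 2 := by
  simp [qf]

variable {Ω : Type u} [Field Ω]

/-- The coefficients as functions on the base. -/
noncomputable def cf (c : Fin 5 → Ω) (i : Fin 5) : Γ(Spec (CommRingCat.of Ω), ⊤) :=
  (Scheme.ΓSpecIso (CommRingCat.of Ω)).inv.hom (c i)

theorem eval_cf (f : Y ⟶ Spec (CommRingCat.of Ω)) {V : Y.Opens} (c : Fin 5 → Ω) (a : Fin 3 → Γ(Y, V)) :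
    MvPolynomial.eval₂ (ρV f V) a (qf (cf c)) = a 0 ^ 2 + cs f V (c 0) * (a 0 * a 1) +
      cs f V (c 1) * (a 0 * a 2) + cs f V (c 2) * a 1 ^ 2 +
      cs f V (c 3) * (a 1 * a 2) + cs f V (c 4) * a 2 ^ 2 := by
  rw [eval_qf]
  rfl

section Main

variable {q : C ⟶ Spec (CommRingCat.of Ω)} {L : C.Modules} {x : Fin 3 → Γ(L, ⊤)}
  {c : Fin 5 → Ω} {U V : C.Opens} {s t₁ : Γ(C, U)} {r t₂ : Γ(C, V)}

/-- Uniqueness in terms of sections. -/
theorem comp_eq {r₀ : C ⟶ CohB1.ProjSpace 2 Z.{u}} (hr₀ : GivenBy r₀ L x) {f : Y ⟶ C}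
    {ρ : Y ⟶ P2 (Spec (CommRingCat.of Ω))} {M : Y.Modules} {y : Fin 3 → Γ(M, ⊤)}
    (hρ : GivenBy (ρ ≫ toZ 2 _) M y) (h1 : f ≫ q = ρ ≫ pr2 _)
    (τ : (Scheme.Modules.pullback f).obj L ≅ M) (hτ : ∀ l, τ.hom.app ⊤ (pullTop f (x l)) = y l) :
    f ≫ liftP r₀ q = ρ := by
  refine hom_ext_over ?_ ?_
  · rw [Category.assoc, liftP_toZ]
    have h2 := (hr₀.comp f).of_iso τ
    have h3 : (fun i => τ.hom.app ⊤ (pullTop f (x i))) = y := funext hτ
    rw [h3] at h2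
    exact h2.unique' hρ
  · rw [Category.assoc, liftP_toBase]
    exact h1

theorem mono_liftP {r₀ : C ⟶ CohB1.ProjSpace 2 Z.{u}} (hr₀ : GivenBy r₀ L x) (hL : PicF.IsInvertible L)
    (hcov : U ⊔ V = ⊤) {i j i' j' : Fin 3} {c' : Fin 5 → Ω} (hU : Chart q x i j c U s t₁)
    (hV : Chart q x i' j' c' V r t₂) : Mono (liftP r₀ q) := by
  constructor
  intro Y f f' hff
  have h1 : f ≫ q = f' ≫ q := by
    have := congrArg (· ≫ pr2 _) hff
    simp only [Category.assoc] at this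
    rwa [liftP_toBase] at this
  have h2 : f ≫ r₀ = f' ≫ r₀ := by
    have := congrArg (· ≫ toZ 2 _) hff
    simp only [Category.assoc] at this
    rwa [liftP_toZ] at this
  have h3 := hr₀.comp f
  rw [h2] at h3
  obtain ⟨e, he⟩ := h3.exists_iso (hr₀.comp f')
  refine Scheme.hom_ext_of_forall _ _ fun y => ?_
  have h4 : f y ∈ U ⊔ V := by rw [hcov]; trivial
  rcases h4 with h4 | h4
  · exact ⟨f ⁻¹ᵁ U, h4, hU.hom_ext hL h1 e he⟩
  · exact ⟨f ⁻¹ᵁ V, h4, hV.hom_ext hL h1 e he⟩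

/-- The relation on the first chart. -/
theorem rel_one {f : Y ⟶ C} {M : Y.Modules} (τ : (Scheme.Modules.pullback f).obj L ≅ M) {y : Fin 3 → Γ(M, ⊤)}
    (hτ : ∀ l, τ.hom.app ⊤ (pullTop f (x l)) = y l) {i j : Fin 3} {c' : Fin 5 → Ω} (hU : Chart q x i j c' U s t₁)
    {W : Y.Opens} (hW : W ≤ f ⁻¹ᵁ U) {e : Γ(M, W)} (he : IsGen e) {a : Fin 3 → Γ(Y, W)}
    (ha : ∀ l, res M (le_top : W ≤ ⊤) (y l) = a l • e) :
    a 0 ^ 2 + cs (f ≫ q) W (c' 0) * (a 0 * a i) + cs (f ≫ q) W (c' 1) * (a j * a 0) +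
      cs (f ≫ q) W (c' 2) * a i ^ 2 + cs (f ≫ q) W (c' 3) * (a i * a j) + cs (f ≫ q) W (c' 4) * a j ^ 2 = 0 := by
  have key : ∀ (l : Fin 3) (b : Γ(C, U)), res L (le_top : U ≤ ⊤) (x l) = b • res L (le_top : U ≤ ⊤) (x i) →
      a l = (f.appLE U W hW).hom b * a i := by
    intro l b hb
    apply he.ext
    have h1 := congrArg (τ.hom.app W) (res_pullTop_eq f hW hb)
    rw [Scheme.Modules.Hom.app_smul, app_res, app_res, hτ, hτ, ha, ha, smul_smul] at h1
    exact h1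
  have h2 := congrArg (f.appLE U W hW).hom hU.pres.rel'
  simp only [map_add, map_mul, map_pow, map_zero, appLE_cs] at h2
  rw [key 0 t₁ hU.ht, key j s hU.hs]
  linear_combination (a i) ^ 2 * h2

theorem van_of_lift (hcov : U ⊔ V = ⊤) (hU : Chart q x 1 2 c U s t₁)
    (hV : Chart q x 2 1 ![c 1, c 0, c 4, c 3, c 2] V r t₂) {f : Y ⟶ C} {g : Y ⟶ Spec (CommRingCat.of Ω)}
    (hg : f ≫ q = g) {M : Y.Modules}
    (τ : (Scheme.Modules.pullback f).obj L ≅ M) {y : Fin 3 → Γ(M, ⊤)}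
    (hτ : ∀ l, τ.hom.app ⊤ (pullTop f (x l)) = y l) : Van g y (qf (cf c)) := by
  subst hg
  intro W e a he ha
  rw [eval_cf]
  refine ores_ext (fun b : Bool => W ⊓ f ⁻¹ᵁ (bif b then U else V)) (fun _ => inf_le_left) ?_ ?_
  · intro z hz
    have h4 : f z ∈ U ⊔ V := by rw [hcov]; trivial
    rw [Opens.mem_iSup]
    rcases h4 with h4 | h4
    · exact ⟨true, hz, h4⟩
    · exact ⟨false, hz, h4⟩
  · intro b
    have h5 : ∀ (W' : Y.Opens) (hW' : W' ≤ W) (l), res M (le_top : W' ≤ ⊤) (y l) = ores hW' (a l) • res M hW' e := by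
      intro W' hW' l
      have := congrArg (res M hW') (ha l)
      rw [res_res, res_smul] at this
      exact this
    cases b
    · change ores (inf_le_left : W ⊓ f ⁻¹ᵁ V ≤ W) _ = ores (inf_le_left : W ⊓ f ⁻¹ᵁ V ≤ W) 0
      have h6 := rel_one τ hτ hV (inf_le_right : W ⊓ f ⁻¹ᵁ V ≤ _) (he.res inf_le_left)
        (h5 _ (inf_le_left : W ⊓ f ⁻¹ᵁ V ≤ W))
      simp only [map_add, map_mul, map_pow, map_zero, ores_cs, Matrix.cons_val_zero, Matrix.cons_val_one,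
        Matrix.cons_val] at h6 ⊢
      linear_combination h6
    · change ores (inf_le_left : W ⊓ f ⁻¹ᵁ U ≤ W) _ = ores (inf_le_left : W ⊓ f ⁻¹ᵁ U ≤ W) 0
      have h6 := rel_one τ hτ hU (inf_le_right : W ⊓ f ⁻¹ᵁ U ≤ _) (he.res inf_le_left)
        (h5 _ (inf_le_left : W ⊓ f ⁻¹ᵁ U ≤ W))
      simp only [map_add, map_mul, map_pow, map_zero, ores_cs] at h6 ⊢
      linear_combination h6

/-- If the form `qf` vanishes then the first coordinate is not needed. -/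
theorem cover_of_van {g : Y ⟶ Spec (CommRingCat.of Ω)} {M : Y.Modules} {y : Fin 3 → Γ(M, ⊤)}
    (hy : ⨆ i, CohB1.genLocus M (homOf (y i)) = ⊤) (hv : Van g y (qf (cf c))) :
    CohB1.genLocus M (homOf (y 1)) ⊔ CohB1.genLocus M (homOf (y 2)) = ⊤ := by
  rw [eq_top_iff]
  intro z _
  have h1 : z ∈ ⨆ i, CohB1.genLocus M (homOf (y i)) := by rw [hy]; trivial
  obtain ⟨l, hl⟩ := Opens.mem_iSup.1 h1
  by_cases h0 : l = 0
  swap
  · have : l = 1 ∨ l = 2 := by omega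
    rcases this with rfl | rfl
    · exact Or.inl hl
    · exact Or.inr hl
  · subst h0
    have he := isGen_sec_genLocus (homOf (y 0))
    choose a ha using fun l => he.exists_eq (res M (le_top : CohB1.genLocus M (homOf (y 0)) ≤ ⊤) (y l))
    have h2 := hv _ _ a he ha
    have ha0 : a 0 = 1 := by
      apply he.ext
      rw [← ha 0, one_smul, sec_homOf]
    rw [eval_cf, ha0] at h2
    have h3 := congrArg (Y.presheaf.germ _ z hl) h2
    have h4 : ∀ l, z ∉ CohB1.genLocus M (homOf (y l)) →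
        ¬ IsUnit (Y.presheaf.germ _ z hl (a l)) := by
      intro l hz hu
      apply hz
      have h5 := genLocus_inf_eq (homOf (y l)) he ((sec_homOf _ _).trans (ha l))
      have h6 : z ∈ Y.basicOpen (a l) := (Scheme.mem_basicOpen _ _ _ hl).2 hu
      rw [← h5] at h6
      exact h6.1
    by_contra hcon
    have h5 := h4 1 fun h => hcon (Or.inl h)
    have h6 := h4 2 fun h => hcon (Or.inr h)
    simp only [map_add, map_mul, map_pow, map_zero, map_one] at h3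
    generalize Y.presheaf.germ _ z hl (a 1) = α at h3 h5
    generalize Y.presheaf.germ _ z hl (a 2) = β at h3 h6
    have h7 : α ∈ IsLocalRing.maximalIdeal (Y.presheaf.stalk z) := (IsLocalRing.mem_maximalIdeal _).2 h5
    have h8 : β ∈ IsLocalRing.maximalIdeal (Y.presheaf.stalk z) := (IsLocalRing.mem_maximalIdeal _).2 h6
    have h9 : (1 : Y.presheaf.stalk z) ∈ IsLocalRing.maximalIdeal (Y.presheaf.stalk z) := by
      have : (1 : Y.presheaf.stalk z) =
        (- Y.presheaf.germ _ z hl (cs g _ (c 0)) - Y.presheaf.germ _ z hl (cs g _ (c 2)) * α -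
          Y.presheaf.germ _ z hl (cs g _ (c 3)) * β) * α +
        (- Y.presheaf.germ _ z hl (cs g _ (c 1)) - Y.presheaf.germ _ z hl (cs g _ (c 4)) * β) * β := by
        linear_combination h3
      rw [this]
      exact add_mem (Ideal.mul_mem_left _ _ h7) (Ideal.mul_mem_left _ _ h8)
    exact (Ideal.ne_top_iff_one _).1 (IsLocalRing.maximalIdeal.isMaximal _).ne_top h9

/-- Existence on a chart. -/
theorem exists_lift_chart {r₀ : C ⟶ CohB1.ProjSpace 2 Z.{u}} (hr₀ : GivenBy r₀ L x)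
    {ρ : Y ⟶ P2 (Spec (CommRingCat.of Ω))} {i j : Fin 3} {c' : Fin 5 → Ω} (hU : Chart q x i j c' U s t₁)
    {W : Y.Opens} (hW : W = CohB1.genLocus _ (homOf (pullTop ρ (crd 2 _ i))))
    {a : Fin 3 → Γ(Y, W)} (ha : ∀ l, res ((Scheme.Modules.pullback ρ).obj (O2 _)) (le_top : W ≤ ⊤) (pullTop ρ (crd 2 _ l)) =
      a l • res _ (le_top : W ≤ ⊤) (pullTop ρ (crd 2 _ i)))
    (hrel : a 0 ^ 2 + cs (ρ ≫ pr2 _) W (c' 0) * a 0 + cs (ρ ≫ pr2 _) W (c' 1) * (a j * a 0) +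
      cs (ρ ≫ pr2 _) W (c' 2) + cs (ρ ≫ pr2 _) W (c' 3) * a j + cs (ρ ≫ pr2 _) W (c' 4) * a j ^ 2 = 0) :
    ∃ f : W.toScheme ⟶ C, f ≫ liftP r₀ q = W.ι ≫ ρ := by
  have hW' : (⊤ : W.toScheme.Opens) ≤ W.ι ⁻¹ᵁ W := by rw [Scheme.Opens.ι_preimage_self]
  have hg : IsGen (res _ (le_top : W ≤ ⊤) (pullTop ρ (crd 2 (Spec (CommRingCat.of Ω)) i))) := by
    have h1 := isGen_sec_genLocus (homOf (pullTop ρ (crd 2 (Spec (CommRingCat.of Ω)) i)))
    rw [← hW, sec_homOf] at h1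
    exact h1
  have hg' := isGen_res_pullTop W.ι hW' hg
  rw [res_refl] at hg'
  have hsec : ∀ l, pullTop W.ι (pullTop ρ (crd 2 (Spec (CommRingCat.of Ω)) l)) =
      (W.ι.appLE W ⊤ hW').hom (a l) • pullTop W.ι (pullTop ρ (crd 2 _ i)) := by
    intro l
    have := res_pullTop_eq W.ι hW' (ha l)
    rwa [res_refl, res_refl] at this
  have hrel' := congrArg (W.ι.appLE W ⊤ hW').hom hrel
  simp only [map_add, map_mul, map_pow, map_zero, appLE_cs] at hrel'
  obtain ⟨f, hf, τ, hτ⟩ := hU.exists_hom (fun l => pullTop W.ι (pullTop ρ (crd 2 _ l))) (W.ι ≫ ρ ≫ pr2 _) hg'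
    ((W.ι.appLE W ⊤ hW').hom (a j)) ((W.ι.appLE W ⊤ hW').hom (a 0)) (hsec j) (hsec 0) hrel'
  refine ⟨f, comp_eq hr₀ (ρ := W.ι ≫ ρ) (y := fun l => pullTop W.ι (pullTop ρ (crd 2 _ l))) ?_ ?_ τ hτ⟩
  · rw [Category.assoc]
    exact (givenBy_crd ρ).comp W.ι
  · rw [hf, Category.assoc]

theorem isCon [IsProper q] (hL : PicF.IsInvertible L) (hcov : U ⊔ V = ⊤) (hU : Chart q x 1 2 c U s t₁)
    (hV : Chart q x 2 1 ![c 1, c 0, c 4, c 3, c 2] V r t₂) : IsCon (cf c) q L x := by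
  obtain ⟨r₀, hr₀⟩ := exists_givenBy' (n := 2) x (by
    rw [eq_top_iff, ← hcov, hU.eq, hV.eq]
    exact sup_le (le_iSup (fun i => CohB1.genLocus L (homOf (x i))) 1)
      (le_iSup (fun i => CohB1.genLocus L (homOf (x i))) 2))
  have hm : Mono (liftP r₀ q) := mono_liftP hr₀ hL hcov hU hV
  refine ⟨liftP r₀ q, liftP_toBase r₀ q, by rw [liftP_toZ]; exact hr₀, ?_, fun {Y} ρ => ⟨?_, fun hv => ?_⟩⟩
  · have h1 : IsProper (pr2 (Spec (CommRingCat.of Ω))) := isProper_toBase 2 _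
    have h2 : IsProper (liftP r₀ q) := by
      have : IsProper (liftP r₀ q ≫ pr2 (Spec (CommRingCat.of Ω))) := by
        rw [liftP_toBase]
        infer_instance
      exact IsProper.of_comp _ (pr2 (Spec (CommRingCat.of Ω)))
    exact (IsClosedImmersion.iff_isProper_and_mono _).2 ⟨h2, hm⟩
  · rintro ⟨f, hf⟩
    have h3 : GivenBy (ρ ≫ toZ 2 _) ((Scheme.Modules.pullback f).obj L) (fun l => pullTop f (x l)) := by
      have := hr₀.comp f
      rw [← hf, Category.assoc, liftP_toZ]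
      exact this
    obtain ⟨τ, hτ⟩ := h3.exists_iso (givenBy_crd ρ)
    refine van_of_lift hcov hU hV (f := f) ?_ τ hτ
    rw [← hf, Category.assoc, liftP_toBase]
  · have hcov' := cover_of_van (givenBy_crd ρ).iSup_genLocus hv
    have hg : ∀ i, IsGen (res _ (le_top : CohB1.genLocus _ (homOf (pullTop ρ (crd 2 (Spec (CommRingCat.of Ω)) i))) ≤ ⊤)
        (pullTop ρ (crd 2 (Spec (CommRingCat.of Ω)) i))) := by
      intro i
      have h1 := isGen_sec_genLocus (homOf (pullTop ρ (crd 2 (Spec (CommRingCat.of Ω)) i)))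
      rw [sec_homOf] at h1
      exact h1
    choose a ha using fun i l => (hg i).exists_eq (res _ (le_top : CohB1.genLocus _ _ ≤ ⊤)
      (pullTop ρ (crd 2 (Spec (CommRingCat.of Ω)) l)))
    have ha1 : ∀ i, a i i = 1 := by
      intro i
      apply (hg i).ext
      rw [← ha i i, one_smul]
    refine exists_lift_of_mono _ _ fun z => ?_
    have hz : z ∈ CohB1.genLocus _ (homOf (pullTop ρ (crd 2 (Spec (CommRingCat.of Ω)) 1))) ⊔
      CohB1.genLocus _ (homOf (pullTop ρ (crd 2 (Spec (CommRingCat.of Ω)) 2))) := by rw [hcov']; trivial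
    rcases hz with hz | hz
    · refine ⟨_, hz, exists_lift_chart hr₀ hU rfl (ha 1) ?_⟩
      have h2 := hv _ _ _ (hg 1) (ha 1)
      rw [eval_cf, ha1 1] at h2
      linear_combination h2
    · refine ⟨_, hz, exists_lift_chart hr₀ hV rfl (ha 2) ?_⟩
      have h2 := hv _ _ _ (hg 2) (ha 2)
      rw [eval_cf, ha1 2] at h2
      simp only [Matrix.cons_val_zero, Matrix.cons_val_one, Matrix.cons_val]
      linear_combination h2

end Main

end K666.ConIs
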