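import Groth.Agent.Fano.K666.ConPres
import Groth.Agent.Fano.K745.ConDef
import Groth.Agent.FlatMor.K361.PnAux

/-!
# Morphisms to a scheme covered by charts with a presentation, given by sections of an invertible module
-/

set_option autoImplicit false

universe u

open CategoryTheory CategoryTheory.Limits AlgebraicGeometry Opposite TopologicalSpace

namespace K666.ConMap

open K390.PnSec Groth.Agent.Fdesc.LocGen Groth.Agent.Dix.ProjProper K188.LineDef K745.ConDef K666.ConAlg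

variable {C Y Z : Scheme.{u}}

section Gen

/-- A morphism is determined on `V` by the map on functions from an affine open. -/
theorem ι_comp_ext {U : C.Opens} (hU : IsAffineOpen U) {f f' : Y ⟶ C} {V : Y.Opens} (h : V ≤ f ⁻¹ᵁ U)
    (h' : V ≤ f' ⁻¹ᵁ U) (e : f.appLE U V h = f'.appLE U V h') : V.ι ≫ f = V.ι ≫ f' := by
  have key : ∀ (g : Y ⟶ C) (hg : V ≤ g ⁻¹ᵁ U), V.ι ≫ g = V.toSpecΓ ≫ Spec.map (g.appLE U V hg) ≫ hU.fromSpec := by
    intro g hg
    rw [← Category.assoc, Scheme.Opens.toSpecΓ_SpecMap_appLE, Category.assoc, hU.toSpecΓ_fromSpec,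
      Scheme.Hom.resLE_comp_ι]
  rw [key f h, key f' h', e]

/-- Existence of morphisms to an affine open. -/
theorem exists_hom {U : C.Opens} (hU : IsAffineOpen U) (φ : Γ(C, U) ⟶ Γ(Z, ⊤)) :
    ∃ (f : Z ⟶ C) (h : ⊤ ≤ f ⁻¹ᵁ U), f.appLE U ⊤ h = φ := by
  have h1 : ⊤ ≤ (Z.toSpecΓ ≫ Spec.map φ ≫ hU.fromSpec) ⁻¹ᵁ U := by
    intro z _
    have h2 : hU.fromSpec ((Z.toSpecΓ ≫ Spec.map φ) z) ∈ (U : Set C) := by
      rw [← hU.range_fromSpec]
      exact ⟨_, rfl⟩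
    rw [← Category.assoc]
    exact h2
  refine ⟨_, h1, ?_⟩
  have h2 : (⊤ : (Spec Γ(C, U)).Opens) ≤ hU.fromSpec ⁻¹ᵁ U := by rw [hU.fromSpec_preimage_self]
  have e1 : hU.fromSpec.appLE U ⊤ h2 = (Scheme.ΓSpecIso Γ(C, U)).inv := by
    rw [Scheme.Hom.appLE, hU.fromSpec_app_self, Category.assoc, ← Functor.map_comp]
    have : (eqToHom hU.fromSpec_preimage_self).op ≫ (homOfLE h2).op = 𝟙 _ := Subsingleton.elim _ _
    erw [this, CategoryTheory.Functor.map_id, Category.comp_id]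
  have e2 : (Z.toSpecΓ ≫ Spec.map φ).appLE ⊤ ⊤ le_top = (Scheme.ΓSpecIso Γ(C, U)).hom ≫ φ := by
    have e3 : (Z.toSpecΓ ≫ Spec.map φ).appTop = (Scheme.ΓSpecIso Γ(C, U)).hom ≫ φ := by
      rw [Scheme.Hom.comp_appTop, Scheme.toSpecΓ_appTop, Scheme.ΓSpecIso_naturality]
    rw [← e3, Scheme.Hom.appTop, Scheme.Hom.app_eq_appLE]
    rfl
  have e4 : (Z.toSpecΓ ≫ Spec.map φ ≫ hU.fromSpec).appLE U ⊤ h1 =
      hU.fromSpec.appLE U ⊤ h2 ≫ (Z.toSpecΓ ≫ Spec.map φ).appLE ⊤ ⊤ le_top := by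
    rw [Scheme.Hom.appLE_comp_appLE]
    simp only [Category.assoc]
  rw [e4, e1, e2, Iso.inv_hom_id_assoc]

/-- Relations between sections are preserved by pullback. -/
theorem res_pullTop_eq (f : Y ⟶ C) {M : C.Modules} {U : C.Opens} {V : Y.Opens} (hV : V ≤ f ⁻¹ᵁ U)
    {m m' : Γ(M, ⊤)} {a : Γ(C, U)} (h : res M (le_top : U ≤ ⊤) m = a • res M (le_top : U ≤ ⊤) m') :
    res _ (le_top : V ≤ ⊤) (pullTop f m) = (f.appLE U V hV a : Γ(Y, V)) • res _ (le_top : V ≤ ⊤) (pullTop f m') := by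
  have h1 : ∀ n : Γ(M, ⊤), res _ (le_top : V ≤ ⊤) (pullTop f n) = res _ hV (pullSec f (res M (le_top : U ≤ ⊤) n)) := by
    intro n
    have h2 : res ((Scheme.Modules.pullback f).obj M) le_top (pullTop f n) =
      pullSec f (res M le_top n) := (res_pullSec f (le_top : U ≤ ⊤) n)
    rw [← h2, res_res]
  rw [h1, h1, h, pullSec_smul, res_smul]
  rfl

theorem isGen_res_pullTop (f : Y ⟶ C) {M : C.Modules} {U : C.Opens} {V : Y.Opens} (hV : V ≤ f ⁻¹ᵁ U)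
    {m : Γ(M, ⊤)} (h : IsGen (res M (le_top : U ≤ ⊤) m)) : IsGen (res _ (le_top : V ≤ ⊤) (pullTop f m)) := by
  have h2 : res ((Scheme.Modules.pullback f).obj M) le_top (pullTop f m) =
      pullSec f (res M le_top m) := (res_pullSec f (le_top : U ≤ ⊤) m)
  have h3 := (h.pullSec f).res hV
  rw [← h2, res_res] at h3
  exact h3

end Gen

variable {Ω : Type u} [Field Ω]

/-- Constants. -/
noncomputable def cs (f : Y ⟶ Spec (CommRingCat.of Ω)) (V : Y.Opens) : Ω →+* Γ(Y, V) :=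
  (ρV f V).comp (Scheme.ΓSpecIso (CommRingCat.of Ω)).inv.hom

theorem ores_cs (f : Y ⟶ Spec (CommRingCat.of Ω)) {V W : Y.Opens} (h : W ≤ V) (a : Ω) :
    ores h (cs f V a) = cs f W a := ores_ores _ _ _

theorem appLE_cs (h : Y ⟶ C) (q : C ⟶ Spec (CommRingCat.of Ω)) {U : C.Opens} {V : Y.Opens}
    (hV : V ≤ h ⁻¹ᵁ U) (a : Ω) : (h.appLE U V hV).hom (cs q U a) = cs (h ≫ q) V a := by
  simp only [cs, ρV, RingHom.comp_apply, Scheme.Hom.comp_appTop, CommRingCat.hom_comp]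
  generalize (q.appTop.hom ((Scheme.ΓSpecIso (CommRingCat.of Ω)).inv.hom a)) = b
  have : C.presheaf.map (homOfLE (le_top : U ≤ ⊤)).op ≫ h.appLE U V hV =
      h.appTop ≫ Y.presheaf.map (homOfLE (le_top : V ≤ ⊤)).op := by
    rw [Scheme.Hom.map_appLE]
    rfl
  exact congr(($this).hom b)

theorem hom_ext_cs {f f' : Y ⟶ Spec (CommRingCat.of Ω)} (h : ∀ a, cs f ⊤ a = cs f' ⊤ a) : f = f' := by
  apply ext_of_isAffine
  ext b
  obtain ⟨a, rfl⟩ : ∃ a, (Scheme.ΓSpecIso (CommRingCat.of Ω)).inv.hom a = b :=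
    ⟨(Scheme.ΓSpecIso (CommRingCat.of Ω)).hom.hom b, by
      have := (Scheme.ΓSpecIso (CommRingCat.of Ω)).hom_inv_id
      exact congr(($this).hom b)⟩
  have := h a
  simp only [cs, ρV, RingHom.comp_apply, ores_refl] at this
  exact this

section Chart

variable (q : C ⟶ Spec (CommRingCat.of Ω)) {L : C.Modules} (x : Fin 3 → Γ(L, ⊤)) (i j : Fin 3) (c : Fin 5 → Ω)

/-- An affine open on which `x_i` generates, presented by the ratios `s = x_j / x_i`, `t = x_0 / x_i`. -/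
structure Chart (U : C.Opens) (s t : Γ(C, U)) : Prop where
  isAffineOpen : IsAffineOpen U
  eq : U = CohB1.genLocus L (homOf (x i))
  hs : res L (le_top : U ≤ ⊤) (x j) = s • res L (le_top : U ≤ ⊤) (x i)
  ht : res L (le_top : U ≤ ⊤) (x 0) = t • res L (le_top : U ≤ ⊤) (x i)
  pres : PresR (cs q U) s t c
  hij : ∀ l : Fin 3, l = 0 ∨ l = i ∨ l = j

variable {q x i j c} {U : C.Opens} {s t : Γ(C, U)} (h : Chart q x i j c U s t)
include h

theorem Chart.isGen : IsGen (res L (le_top : U ≤ ⊤) (x i)) := by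
  have h1 := isGen_sec_genLocus (homOf (x i))
  rw [← h.eq, sec_homOf] at h1
  exact h1

theorem Chart.hom_ext (hL : PicF.IsInvertible L) {f f' : Y ⟶ C} (hq : f ≫ q = f' ≫ q)
    (e : (Scheme.Modules.pullback f).obj L ≅ (Scheme.Modules.pullback f').obj L)
    (he : ∀ l, e.hom.app ⊤ (pullTop f (x l)) = pullTop f' (x l)) :
    (f ⁻¹ᵁ U).ι ≫ f = (f ⁻¹ᵁ U).ι ≫ f' := by
  have e1 : f ⁻¹ᵁ U = f' ⁻¹ᵁ U := by
    rw [h.eq, ← genLocus_pullTop f hL, ← genLocus_pullTop f' hL, ← he i, genLocus_app]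
  refine ι_comp_ext h.isAffineOpen le_rfl e1.le ?_
  have hg : IsGen (res _ (le_top : f ⁻¹ᵁ U ≤ ⊤) (pullTop f' (x i))) := isGen_res_pullTop f' e1.le h.isGen
  have key : ∀ (l : Fin 3) (a : Γ(C, U)), res L (le_top : U ≤ ⊤) (x l) = a • res L (le_top : U ≤ ⊤) (x i) →
      (f.appLE U (f ⁻¹ᵁ U) le_rfl).hom a = (f'.appLE U (f ⁻¹ᵁ U) e1.le).hom a := by
    intro l a ha
    have h1 := res_pullTop_eq f (le_refl (f ⁻¹ᵁ U)) ha
    have h2 := res_pullTop_eq f' e1.le ha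
    apply hg.ext
    refine Eq.trans ?_ h2
    have h3 := congrArg (e.hom.app (f ⁻¹ᵁ U)) h1
    rw [Scheme.Modules.Hom.app_smul, app_res, app_res, he, he] at h3
    exact h3.symm
  ext a
  refine congrArg (fun φ : Γ(C, U) →+* Γ(Y, f ⁻¹ᵁ U) => φ a) (h.pres.ringHom_ext
    (φ := (f.appLE U (f ⁻¹ᵁ U) le_rfl).hom) (φ' := (f'.appLE U (f ⁻¹ᵁ U) e1.le).hom) (fun b => ?_) (key j s h.hs)
    (key 0 t h.ht))
  rw [appLE_cs, appLE_cs, hq]

theorem Chart.exists_hom {M : Z.Modules} (y : Fin 3 → Γ(M, ⊤)) (g : Z ⟶ Spec (CommRingCat.of Ω))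
    (hy : IsGen (y i)) (s' t' : Γ(Z, ⊤)) (hs' : y j = s' • y i) (ht' : y 0 = t' • y i)
    (hrel : t' ^ 2 + cs g ⊤ (c 0) * t' + cs g ⊤ (c 1) * (s' * t') + cs g ⊤ (c 2) +
      cs g ⊤ (c 3) * s' + cs g ⊤ (c 4) * s' ^ 2 = 0) :
    ∃ f : Z ⟶ C, f ≫ q = g ∧ ∃ τ : (Scheme.Modules.pullback f).obj L ≅ M,
      ∀ l, τ.hom.app ⊤ (pullTop f (x l)) = y l := by
  obtain ⟨φ, h1, h2, h3⟩ := h.pres.exists_lift (cs g ⊤) s' t' hrel
  obtain ⟨f, hf, hf'⟩ := ConMap.exists_hom h.isAffineOpen (CommRingCat.ofHom φ)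
  have hf'' : ∀ a, (f.appLE U ⊤ hf).hom a = φ a := fun a => by
    rw [hf']
    rfl
  have hg : IsGen (pullTop f (x i)) := by
    have := isGen_res_pullTop f hf h.isGen
    rwa [res_refl] at this
  obtain ⟨τ, hτ⟩ := K361.PnAux.exists_iso_of_isGen hg hy
  refine ⟨f, hom_ext_cs fun a => ?_, τ, fun l => ?_⟩
  · rw [← appLE_cs f q hf, hf'', h1]
  · have key : ∀ (l : Fin 3) (a : Γ(C, U)), res L (le_top : U ≤ ⊤) (x l) = a • res L (le_top : U ≤ ⊤) (x i) →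
        τ.hom.app ⊤ (pullTop f (x l)) = φ a • y i := by
      intro l a ha
      have h4 := res_pullTop_eq f hf ha
      rw [res_refl, res_refl] at h4
      have h5 := congrArg (τ.hom.app ⊤) h4
      rw [Scheme.Modules.Hom.app_smul, hτ, hf''] at h5
      exact h5
    rcases h.hij l with rfl | rfl | rfl
    · rw [key 0 t h.ht, h3, ht']
    · exact hτ
    · rw [key _ s h.hs, h2, hs']

end Chart

end K666.ConMap
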