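import Groth.Agent.Fano.K666.ConAlg

/-!
# Presentation of the two charts of a double cover of the projective line
-/

set_option autoImplicit false

open Polynomial

namespace K666.ConAlg

section Pres

variable {k A D : Type*} [Field k] [CommRing A] [CommRing D] [Algebra k A]

/-- `A = k[s] ⊕ k[s] t` with `t² + c₀ t + c₁ s t + c₂ + c₃ s + c₄ s² = 0`. -/
structure Pres (s t : A) (c : Fin 5 → k) : Prop where
  gen : ∀ a : A, ∃ f g : k[X], a = aeval s f + aeval s g * t
  indep : ∀ f g : k[X], aeval s f + aeval s g * t = 0 → f = 0 ∧ g = 0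
  rel : t ^ 2 + algebraMap k A (c 0) * t + algebraMap k A (c 1) * (s * t) + algebraMap k A (c 2) +
    algebraMap k A (c 3) * s + algebraMap k A (c 4) * s ^ 2 = 0

/-- evaluation of polynomials in two variables -/
noncomputable def ev (κ : k →+* D) (s t : D) : k[X][X] →+* D := eval₂RingHom (eval₂RingHom κ s) t

/-- the relation -/
noncomputable def Q (c : Fin 5 → k) : k[X][X] :=
  X ^ 2 + C (C (c 0) + C (c 1) * X) * X + C (C (c 2) + C (c 3) * X + C (c 4) * X ^ 2)

theorem natDegree_rest (c : Fin 5 → k) : degree (C (C (c 0) + C (c 1) * X) * X + C (C (c 2) + C (c 3) * X + C (c 4) * X ^ 2) : k[X][X]) < 2 := by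
  refine lt_of_le_of_lt (degree_add_le _ _) (max_lt ?_ ?_)
  · refine lt_of_le_of_lt (degree_C_mul_X_le _) ?_
    exact_mod_cast Nat.one_lt_two
  · refine lt_of_le_of_lt degree_C_le ?_
    exact_mod_cast Nat.two_pos

theorem Q_eq (c : Fin 5 → k) : Q c = X ^ 2 + (C (C (c 0) + C (c 1) * X) * X + C (C (c 2) + C (c 3) * X + C (c 4) * X ^ 2)) := by
  rw [Q, add_assoc]

theorem monic_Q (c : Fin 5 → k) : (Q c).Monic := by
  rw [Q_eq]
  exact monic_X_pow_add (natDegree_rest c)

theorem degree_Q (c : Fin 5 → k) : (Q c).degree = 2 := by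
  rw [Q_eq, degree_add_eq_left_of_degree_lt]
  · exact degree_X_pow 2
  · rw [degree_X_pow]
    exact natDegree_rest c

theorem ev_Q (κ : k →+* D) (s t : D) (c : Fin 5 → k) : ev κ s t (Q c) =
    t ^ 2 + κ (c 0) * t + κ (c 1) * (s * t) + κ (c 2) + κ (c 3) * s + κ (c 4) * s ^ 2 := by
  simp only [ev, Q, coe_eval₂RingHom, eval₂_add, eval₂_mul, eval₂_pow, eval₂_X, eval₂_C]
  ring

theorem ev_lin (κ : k →+* D) (s t : D) (f g : k[X]) : ev κ s t (C f + C g * X) = eval₂ κ s f + eval₂ κ s g * t := by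
  simp only [ev, coe_eval₂RingHom, eval₂_add, eval₂_mul, eval₂_X, eval₂_C]

variable {s t : A} {c : Fin 5 → k} (h : Pres s t c)
include h

theorem Pres.surjective : Function.Surjective (ev (algebraMap k A) s t) := by
  intro a
  obtain ⟨f, g, rfl⟩ := h.gen a
  exact ⟨C f + C g * X, ev_lin _ _ _ _ _⟩

theorem Pres.dvd {p : k[X][X]} (hp : ev (algebraMap k A) s t p = 0) : Q c ∣ p := by
  have h1 := modByMonic_add_div p (Q c)
  have hlt : degree (p %ₘ Q c) < 2 := by
    have := degree_modByMonic_lt p (monic_Q c)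
    rwa [degree_Q] at this
  have h2 : p %ₘ Q c = C ((p %ₘ Q c).coeff 0) + C ((p %ₘ Q c).coeff 1) * X := by
    have h3 : natDegree (p %ₘ Q c) ≤ 1 := by
      by_cases h0 : p %ₘ Q c = 0
      · rw [h0, natDegree_zero]
        exact Nat.zero_le _
      · rw [degree_eq_natDegree h0] at hlt
        have : natDegree (p %ₘ Q c) < 2 := by exact_mod_cast hlt
        omega
    rw [add_comm]
    exact eq_X_add_C_of_natDegree_le_one h3
  have h4 : ev (algebraMap k A) s t (p %ₘ Q c) = 0 := by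
    rw [← h1, map_add, map_mul, ev_Q, h.rel, zero_mul, add_zero] at hp
    exact hp
  rw [h2, ev_lin] at h4
  obtain ⟨h5, h6⟩ := h.indep _ _ h4
  rw [h5, h6, map_zero, zero_mul, add_zero] at h2
  rw [← h1, h2, zero_add]
  exact Dvd.intro _ rfl

/-- The presentation in terms of a ring homomorphism from the base field. -/
structure PresR (κ : k →+* A) (s t : A) (c : Fin 5 → k) : Prop where
  surjective : Function.Surjective (ev κ s t)
  dvd : ∀ p, ev κ s t p = 0 → Q c ∣ p
  rel : ev κ s t (Q c) = 0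

omit h in
theorem Pres.presR (h : Pres s t c) : PresR (algebraMap k A) s t c where
  surjective := h.surjective
  dvd := fun _ hp => h.dvd hp
  rel := by rw [ev_Q, h.rel]

end Pres

section PresR

variable {k A D : Type*} [Field k] [CommRing A] [CommRing D] {κ : k →+* A} {s t : A} {c : Fin 5 → k}
  (h : PresR κ s t c)
include h

/-- the universal property -/
theorem PresR.exists_lift (κ' : k →+* D) (s' t' : D) (hrel : t' ^ 2 + κ' (c 0) * t' + κ' (c 1) * (s' * t') + κ' (c 2) +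
    κ' (c 3) * s' + κ' (c 4) * s' ^ 2 = 0) :
    ∃ φ : A →+* D, (∀ x, φ (κ x) = κ' x) ∧ φ s = s' ∧ φ t = t' := by
  have hker : RingHom.ker (ev κ s t) ≤ RingHom.ker (ev κ' s' t') := by
    intro p hp
    rw [RingHom.mem_ker] at hp ⊢
    obtain ⟨d, rfl⟩ := h.dvd p hp
    rw [map_mul, ev_Q, hrel, zero_mul]
  let φ := RingHom.liftOfSurjective (ev κ s t) h.surjective ⟨ev κ' s' t', hker⟩
  have hφ : ∀ p, φ (ev κ s t p) = ev κ' s' t' p := fun p =>
    RingHom.liftOfRightInverse_comp_apply _ _ _ _ p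
  refine ⟨φ, fun x => ?_, ?_, ?_⟩
  · have := hφ (C (C x))
    simpa [ev] using this
  · have := hφ (C X)
    simpa [ev] using this
  · have := hφ X
    simpa [ev] using this

theorem PresR.ringHom_ext {φ φ' : A →+* D} (h1 : ∀ x, φ (κ x) = φ' (κ x))
    (h2 : φ s = φ' s) (h3 : φ t = φ' t) : φ = φ' := by
  ext a
  obtain ⟨p, rfl⟩ := h.surjective a
  have : φ.comp (ev κ s t) = φ'.comp (ev κ s t) := by
    refine Polynomial.ringHom_ext' (Polynomial.ringHom_ext' (RingHom.ext fun x => ?_) ?_) ?_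
    · simpa [ev] using h1 x
    · simpa [ev] using h2
    · simpa [ev] using h3
  exact congrArg (fun ψ => ψ p) this

theorem PresR.rel' : t ^ 2 + κ (c 0) * t + κ (c 1) * (s * t) + κ (c 2) + κ (c 3) * s + κ (c 4) * s ^ 2 = 0 := by
  rw [← ev_Q]
  exact h.rel

end PresR

variable {k A₁ A₂ B : Type*} [Field k] [CommRing A₁] [CommRing A₂] [CommRing B]
  [Algebra k A₁] [Algebra k A₂] [Algebra k B] {i₁ : A₁ →ₐ[k] B} {i₂ : A₂ →ₐ[k] B} {s : A₁} {r : A₂}

theorem mul_r_mem (h : Glue i₁ i₂ s r) {b : B} (hb : b ∈ V i₁ i₂ r 1) : b * i₂ r ∈ V i₂ i₁ s 1 := by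
  rw [mem_V] at hb ⊢
  obtain ⟨⟨a, ha⟩, a', ha'⟩ := hb
  refine ⟨⟨a', by rw [ha', pow_one]⟩, a, ?_⟩
  rw [ha, pow_one]
  linear_combination (- b) * h.mul_eq

/-- Multiplication by `r` identifies `A₁ ∩ s A₂` with `A₂ ∩ r A₁`. -/
theorem finrank_symm (h : Glue i₁ i₂ s r) :
    Module.finrank k (V i₂ i₁ s 1) = Module.finrank k (V i₁ i₂ r 1) := by
  symm
  refine LinearEquiv.finrank_eq
    { toFun := fun b => ⟨b * i₂ r, mul_r_mem h b.2⟩
      invFun := fun b => ⟨b * i₁ s, mul_r_mem h.symm b.2⟩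
      map_add' := fun x y => Subtype.ext (add_mul _ _ _)
      map_smul' := fun x y => Subtype.ext (smul_mul_assoc _ _ _)
      left_inv := fun x => Subtype.ext (by
        change (x : B) * i₂ r * i₁ s = x
        linear_combination (x : B) * h.mul_eq)
      right_inv := fun x => Subtype.ext (by
        change (x : B) * i₁ s * i₂ r = x
        linear_combination (x : B) * h.mul_eq) }

theorem exists_pres (h : Glue i₁ i₂ s r) (h3 : Module.finrank k (V i₁ i₂ r 1) = 3) :
    ∃ (t₁ : A₁) (t₂ : A₂) (c : Fin 5 → k), i₁ t₁ = i₁ s * i₂ t₂ ∧ i₂ t₂ = i₁ t₁ * i₂ r ∧ Pres s t₁ c ∧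
      Pres r t₂ ![c 1, c 0, c 4, c 3, c 2] := by
  obtain ⟨t, ht, hspan⟩ := exists_t h h3
  obtain ⟨c, hc⟩ := exists_rel h ht hspan
  obtain ⟨-, t₂, ht₂⟩ := mem_V.1 ht
  rw [pow_one] at ht₂
  have e1 : i₁ t = i₁ s * i₂ t₂ := by
    rw [ht₂]
    linear_combination (- i₁ t) * h.mul_eq
  have h3' := (finrank_symm h).trans h3
  have ht' : i₂ t₂ ∈ V i₂ i₁ s 1 := mem_V.2 ⟨⟨t₂, rfl⟩, t, by rw [e1, pow_one, mul_comm]⟩
  have hspan' : V i₂ i₁ s 1 ≤ Submodule.span k {1, i₂ r, i₂ t₂} := by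
    intro b hb
    rw [mem_V] at hb
    obtain ⟨⟨a, ha⟩, a', ha'⟩ := hb
    have h4 : b * i₁ s ∈ V i₁ i₂ r 1 := mem_V.2 ⟨⟨a', by rw [ha', pow_one]⟩, a, by
      rw [ha, pow_one]
      linear_combination (- b) * h.mul_eq⟩
    obtain ⟨x, y, z, e⟩ := exists_comb hspan h4
    rw [Submodule.mem_span_triple]
    refine ⟨y, x, z, ?_⟩
    have h5 : b = (b * i₁ s) * i₂ r := by linear_combination (- b) * h.mul_eq
    rw [h5, e, ht₂]
    simp only [Algebra.smul_def, mul_one]
    linear_combination (- algebraMap k B y) * h.mul_eq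
  refine ⟨t, t₂, c, e1, ht₂, ⟨fun a => exists_eq h hspan a, fun f g => eq_zero h h3 ht hspan, hc⟩,
    ⟨fun a => exists_eq h.symm hspan' a, fun f g => eq_zero h.symm h3' ht' hspan', ?_⟩⟩
  apply h.inj₂
  have hcc : ∀ c : k, i₂ (algebraMap k A₂ c) = algebraMap k B c := fun c => AlgHom.commutes i₂ c
  have hcc' : ∀ c : k, i₁ (algebraMap k A₁ c) = algebraMap k B c := fun c => AlgHom.commutes i₁ c
  have h6 := congrArg i₁ hc
  simp only [map_add, map_mul, map_pow, map_zero, hcc, hcc', Matrix.cons_val_zero, Matrix.cons_val_one,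
    Matrix.cons_val] at h6 ⊢
  rw [ht₂]
  have h7 := h.mul_eq
  generalize i₁ s = S at *
  generalize i₂ r = R at *
  generalize i₁ t = T at *
  generalize algebraMap k B (c 0) = c0 at *
  generalize algebraMap k B (c 1) = c1 at *
  generalize algebraMap k B (c 2) = c2 at *
  generalize algebraMap k B (c 3) = c3 at *
  generalize algebraMap k B (c 4) = c4 at *
  linear_combination R ^ 2 * h6 + (- c1 * T * R - c3 * R - c4 * (S * R + 1)) * h7

end K666.ConAlg
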